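import Mathlib

-- merged: Cfsg.Agent.Omega.Lie.Heis
section

/-!
# The Heisenberg bound

`r` a prime, `E` a group acting on a finite abelian group `A` of order prime to `r`, `z, x i, y i : E` with
`z ^ r = 1`, `x i ^ r = 1`, `y i * x i * (y i)⁻¹ = x i * z`, all other pairs commuting, `z` without fixed points
on `A`. Then `|A| ≥ |B| ^ (r ^ n)` for some nontrivial `z`-invariant subgroup `B` of `A`. No characters are used.

* `Step.card_pow_le`, `Step.exists_ne`: one pair `x, y`;
* `Heis.exists_sub`: `n` pairs;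
* `Heis.two_pow_le`: if `|A|` is a power of `2` and `A ≠ 1`, then `2 ^ (orderOf (2 : ZMod r) * r ^ n) ≤ |A|`.
-/

set_option autoImplicit false
set_option linter.dupNamespace false
set_option linter.style.haveILetI false

namespace Cfsg.Agent.Omega.Lie.Heis

open Finset

variable {E A : Type*} [Group E] [AddCommGroup A] [DistribMulAction E A]

/-- One step: `x` and `y` generate a nonabelian group modulo the fixed point free central element `z`. -/
structure Step (r : ℕ) (z x y : E) (B : AddSubgroup A) : Prop where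
  prime : r.Prime
  tors : ∀ v ∈ B, r • v = 0 → v = 0
  zr : z ^ r = 1
  xr : x ^ r = 1
  zx : z * x = x * z
  zy : z * y = y * z
  conj : y * x * y⁻¹ = x * z
  Bz : ∀ v ∈ B, z • v ∈ B
  Bx : ∀ v ∈ B, x • v ∈ B
  By : ∀ v ∈ B, y • v ∈ B
  By' : ∀ v ∈ B, y⁻¹ • v ∈ B
  free : ∀ v ∈ B, z • v = v → v = 0

theorem pow_smul_mem {B : AddSubgroup A} {g : E} (h : ∀ v ∈ B, g • v ∈ B) (n : ℕ) {v : A} (hv : v ∈ B) :
    g ^ n • v ∈ B := by
  induction n with
  | zero => simpa using hv
  | succ n ih => rw [pow_succ', mul_smul]; exact h _ ih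

theorem pow_smul_of_fix {g : E} {v : A} (h : g • v = v) (n : ℕ) : g ^ n • v = v := by
  induction n with
  | zero => simp
  | succ n ih => rw [pow_succ', mul_smul, ih, h]

/-- `∑_{j < r} g ^ j v` is fixed by `g` if `g ^ r = 1`. -/
theorem smul_norm {r : ℕ} {g : E} (hg : g ^ r = 1) (v : A) :
    g • ∑ j ∈ range r, g ^ j • v = ∑ j ∈ range r, g ^ j • v := by
  rw [smul_sum]
  have h1 : ∑ j ∈ range r, g • g ^ j • v = ∑ j ∈ range r, g ^ (j + 1) • v :=
    sum_congr rfl fun j _ => by rw [smul_smul, pow_succ']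
  rw [h1]
  have h2 := Finset.sum_range_succ' (fun j => g ^ j • v) r
  have h3 := Finset.sum_range_succ (fun j => g ^ j • v) r
  rw [h3] at h2
  simp only [hg, pow_zero, one_smul] at h2
  exact (add_right_cancel h2).symm

namespace Step

variable {r : ℕ} {z x y : E} {B : AddSubgroup A}

theorem fix_of_pow (h : Step r z x y B) {m : ℕ} (hm : ¬ r ∣ m) {v : A} (hv : v ∈ B)
    (hf : (z ^ m) • v = v) : v = 0 := by
  have hc : Nat.Coprime m r := ((Nat.Prime.coprime_iff_not_dvd h.prime).2 hm).symm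
  obtain ⟨k, hk⟩ := (exists_pow_eq_self_of_coprime (n := m) (x := z)
    (by
      have : orderOf z ∣ r := orderOf_dvd_of_pow_eq_one h.zr
      exact Nat.Coprime.coprime_dvd_right this hc))
  apply h.free v hv
  rw [← hk]
  exact pow_smul_of_fix hf k

theorem norm_zero (h : Step r z x y B) {m : ℕ} (hm : ¬ r ∣ m) {v : A} (hv : v ∈ B) :
    ∑ j ∈ range r, (z ^ m) ^ j • v = 0 := by
  apply h.fix_of_pow hm (v := ∑ j ∈ range r, (z ^ m) ^ j • v)
  · exact B.sum_mem fun j _ => pow_smul_mem (fun w hw => pow_smul_mem h.Bz m hw) j hv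
  · exact smul_norm (by rw [← pow_mul, mul_comm, pow_mul, h.zr, one_pow]) v

theorem zpow_comm (h : Step r z x y B) (m : ℕ) : z ^ m * x = x * z ^ m :=
  (Commute.pow_left (show Commute z x from h.zx) m)

/-- `x * z ^ i` commutes with ... moves `y ^ i • c` to itself if `x` fixes `c`. -/
theorem conj_pow (h : Step r z x y B) (i : ℕ) : y ^ i * x = x * z ^ i * y ^ i := by
  induction i with
  | zero => simp
  | succ i ih =>
    have h1 : y * x = x * z * y := by
      rw [← h.conj]; group
    have h2 : y * z ^ i = z ^ i * y := (Commute.pow_right (show Commute y z from h.zy.symm) i).eq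
    calc y ^ (i + 1) * x = y * (y ^ i * x) := by rw [pow_succ', mul_assoc]
      _ = y * (x * z ^ i * y ^ i) := by rw [ih]
      _ = y * x * z ^ i * y ^ i := by group
      _ = x * z * y * z ^ i * y ^ i := by rw [h1]
      _ = x * z * (y * z ^ i) * y ^ i := by group
      _ = x * z * (z ^ i * y) * y ^ i := by rw [h2]
      _ = x * (z * z ^ i) * (y * y ^ i) := by group
      _ = x * z ^ (i + 1) * y ^ (i + 1) := by rw [← pow_succ', ← pow_succ']

theorem smul_y (h : Step r z x y B) {c : A} (hc : x • c = c) (i : ℕ) :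
    (x * z ^ i) • (y ^ i • c) = y ^ i • c := by
  rw [smul_smul, ← h.conj_pow i, mul_smul, hc]

theorem mul_zpow_pow (h : Step r z x y B) (k j : ℕ) : (x * z ^ k) ^ j = x ^ j * (z ^ k) ^ j :=
  (Commute.mul_pow (show Commute x (z ^ k) from (h.zpow_comm k).symm) j)

theorem mul_zpow_r (h : Step r z x y B) (k : ℕ) : (x * z ^ k) ^ r = 1 := by
  rw [h.mul_zpow_pow, h.xr, one_mul, ← pow_mul, mul_comm, pow_mul, h.zr, one_pow]

/-- The value of the `k`-th norm on the `i`-th summand. -/
theorem norm_y (h : Step r z x y B) {c : A} (hc : x • c = c) {i k : ℕ} (hi : i < r) :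
    ∑ j ∈ range r, (x * z ^ k) ^ j • (y ^ i • c) = ∑ j ∈ range r, (z ^ (k + (r - i))) ^ j • (y ^ i • c) := by
  apply sum_congr rfl
  intro j _
  have h1 : x * z ^ k = z ^ (k + (r - i)) * (x * z ^ i) := by
    rw [← mul_assoc, h.zpow_comm, mul_assoc, ← pow_add]
    congr 1
    rw [show k + (r - i) + i = k + r by omega, pow_add, h.zr, mul_one]
  have h2 : Commute (z ^ (k + (r - i))) (x * z ^ i) := by
    apply Commute.mul_right
    · exact h.zpow_comm _
    · exact Commute.pow_pow_self z _ _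
  rw [h1, h2.mul_pow, mul_smul, pow_smul_of_fix (h.smul_y hc i)]

theorem card_pow_le [Finite A] (h : Step r z x y B) {C : AddSubgroup A} (hC : ∀ v, v ∈ C ↔ v ∈ B ∧ x • v = v) :
    Nat.card C ^ r ≤ Nat.card B := by
  classical
  have hinj : Function.Injective (fun c : Fin r → C =>
      (⟨∑ i : Fin r, y ^ (i : ℕ) • (c i : A),
        B.sum_mem fun i _ => pow_smul_mem h.By _ ((hC _).1 (c i).2).1⟩ : B)) := by
    intro c d hcd
    have hcd' : ∑ i : Fin r, y ^ (i : ℕ) • (c i : A) = ∑ i : Fin r, y ^ (i : ℕ) • (d i : A) :=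
      congrArg Subtype.val hcd
    funext k
    have key : ∀ c : Fin r → C, ∑ j ∈ range r, (x * z ^ (k : ℕ)) ^ j • (∑ i : Fin r, y ^ (i : ℕ) • (c i : A)) =
        r • (y ^ (k : ℕ) • (c k : A)) := by
      intro c
      have h1 : ∑ j ∈ range r, (x * z ^ (k : ℕ)) ^ j • (∑ i : Fin r, y ^ (i : ℕ) • (c i : A)) =
          ∑ i : Fin r, ∑ j ∈ range r, (x * z ^ (k : ℕ)) ^ j • (y ^ (i : ℕ) • (c i : A)) := by
        rw [Finset.sum_comm]
        exact sum_congr rfl fun j _ => smul_sum
      rw [h1, Finset.sum_eq_single k]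
      · rw [h.norm_y ((hC _).1 (c k).2).2 k.2]
        have h2 : z ^ ((k : ℕ) + (r - k)) = 1 := by
          rw [Nat.add_sub_cancel' (le_of_lt k.2), h.zr]
        rw [h2]
        simp only [one_pow, one_smul, sum_const, card_range]
      · intro i _ hik
        rw [h.norm_y ((hC _).1 (c i).2).2 i.2]
        apply h.norm_zero
        · intro hd
          apply hik
          have hi := i.2
          have hk := k.2
          have h3 : (k : ℕ) + (r - i) < 2 * r ∨ (i : ℕ) = 0 := by omega
          obtain ⟨t, ht⟩ := hd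
          have ht1 : t = 1 ∨ t = 0 ∨ 2 ≤ t := by omega
          rcases ht1 with rfl | rfl | h2
          · apply Fin.ext; omega
          · omega
          · have : 2 * r ≤ r * t := by nlinarith
            omega
        · exact pow_smul_mem h.By _ ((hC _).1 (c i).2).1
      · intro hk
        exact absurd (Finset.mem_univ k) hk
    have hk := key c
    rw [hcd', key d] at hk
    have h4 : r • (y ^ (k : ℕ) • ((d k : A) - (c k : A))) = 0 := by
      rw [smul_sub, smul_sub, hk, sub_self]
    have h5 := h.tors _ (pow_smul_mem h.By _ (B.sub_mem ((hC _).1 (d k).2).1 ((hC _).1 (c k).2).1)) h4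
    have h6 : (d k : A) - (c k : A) = 0 := by
      rw [← smul_zero (y ^ (k : ℕ))] at h5
      exact MulAction.injective (y ^ (k : ℕ)) h5
    exact Subtype.ext (sub_eq_zero.1 h6).symm
  have := Nat.card_le_card_of_injective _ hinj
  rwa [Nat.card_fun, Nat.card_fin] at this

theorem exists_ne (h : Step r z x y B) {v : A} (hv : v ∈ B) (hv0 : v ≠ 0) :
    ∃ w ∈ B, x • w = w ∧ w ≠ 0 := by
  classical
  by_contra hcon
  push Not at hcon
  -- every norm `N_k v` is zero
  have h1 : ∀ k : ℕ, ∑ j ∈ range r, (x * z ^ k) ^ j • v = 0 := by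
    intro k
    set u := ∑ j ∈ range r, (x * z ^ k) ^ j • v with hu
    have huB : u ∈ B := B.sum_mem fun j _ =>
      pow_smul_mem (fun w hw => by rw [mul_smul]; exact h.Bx _ (pow_smul_mem h.Bz k hw)) j hv
    have huf : (x * z ^ k) • u = u := smul_norm (h.mul_zpow_r k) v
    -- move by `y⁻ᵏ`
    have hw : x • ((y⁻¹) ^ k • u) = (y⁻¹) ^ k • u := by
      have h2 := h.conj_pow k
      have h3 : x * (y⁻¹) ^ k = (y⁻¹) ^ k * (x * z ^ k) := by
        rw [inv_pow]
        have : y ^ k * x * (y ^ k)⁻¹ = x * z ^ k := by rw [h2]; group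
        calc x * (y ^ k)⁻¹ = (y ^ k)⁻¹ * (y ^ k * x * (y ^ k)⁻¹) := by group
          _ = (y ^ k)⁻¹ * (x * z ^ k) := by rw [this]
      rw [smul_smul, h3, mul_smul, huf]
    have h4 := hcon _ (pow_smul_mem h.By' k huB) hw
    rw [← smul_zero ((y⁻¹) ^ k)] at h4
    exact MulAction.injective ((y⁻¹) ^ k) h4
  have h2 : ∑ k ∈ range r, ∑ j ∈ range r, (x * z ^ k) ^ j • v = r • v := by
    rw [Finset.sum_comm]
    have h3 : ∀ j ∈ range r, ∑ k ∈ range r, (x * z ^ k) ^ j • v =
        if j = 0 then r • v else 0 := by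
      intro j hj
      split_ifs with hj0
      · subst hj0; simp
      · have h4 : ∀ k ∈ range r, (x * z ^ k) ^ j • v = x ^ j • ((z ^ j) ^ k • v) := by
          intro k _
          rw [h.mul_zpow_pow, mul_smul, ← pow_mul, ← pow_mul, mul_comm k j]
        rw [sum_congr rfl h4, ← smul_sum, h.norm_zero ?_ hv, smul_zero]
        intro hd
        have := Nat.le_of_dvd (by omega) hd
        have := mem_range.1 hj
        omega
    rw [sum_congr rfl h3, Finset.sum_ite_eq' (range r) 0]
    simp [h.prime.pos]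
  rw [sum_congr rfl (fun k _ => h1 k), sum_const_zero] at h2
  exact hv0 (h.tors v hv h2.symm)

end Step

/-! ### Several pairs -/

/-- A Heisenberg configuration: `x i, y i` (`i < n`), `z`. -/
structure Heis (r n : ℕ) (z : E) (x y : Fin n → E) : Prop where
  prime : r.Prime
  zr : z ^ r = 1
  xr : ∀ i, x i ^ r = 1
  zx : ∀ i, z * x i = x i * z
  zy : ∀ i, z * y i = y i * z
  xx : ∀ i j, x i * x j = x j * x i
  yx : ∀ i j, i ≠ j → y i * x j = x j * y i
  conj : ∀ i, y i * x i * (y i)⁻¹ = x i * z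

namespace Heis

variable {r n : ℕ} {z : E} {x y : Fin n → E}

/-- The fixed points of `x i`, `i < k`, in `B`. -/
def fix (B : AddSubgroup A) (x : Fin n → E) (k : ℕ) : AddSubgroup A where
  carrier := {v | v ∈ B ∧ ∀ i : Fin n, (i : ℕ) < k → x i • v = v}
  zero_mem' := ⟨B.zero_mem, fun i _ => smul_zero _⟩
  add_mem' := fun {v w} hv hw => ⟨B.add_mem hv.1 hw.1, fun i hi => by rw [smul_add, hv.2 i hi, hw.2 i hi]⟩
  neg_mem' := fun {v} hv => ⟨B.neg_mem hv.1, fun i hi => by rw [smul_neg, hv.2 i hi]⟩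

theorem mem_fix {B : AddSubgroup A} {v : A} {k : ℕ} :
    v ∈ fix B x k ↔ v ∈ B ∧ ∀ i : Fin n, (i : ℕ) < k → x i • v = v := Iff.rfl

theorem mem_of_comm {B : AddSubgroup A} {g : E} {k : ℕ} (hB : ∀ v ∈ B, g • v ∈ B)
    (hg : ∀ i : Fin n, (i : ℕ) < k → g * x i = x i * g) {v : A}
    (hv : v ∈ fix B x k) : g • v ∈ fix B x k := by
  refine ⟨hB v hv.1, fun i hi => ?_⟩
  rw [smul_smul, ← hg i hi, mul_smul, hv.2 i hi]

/-- The step at stage `k`. -/
theorem step (h : Heis r n z x y) {B : AddSubgroup A} (hB : ∀ g : E, z * g = g * z → ∀ v ∈ B, g • v ∈ B)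
    (ht : ∀ v ∈ B, r • v = 0 → v = 0) (hf : ∀ v ∈ B, z • v = v → v = 0)
    (k : Fin n) : Step r z (x k) (y k) (fix B x k) where
  prime := h.prime
  tors := fun v hv => ht v hv.1
  zr := h.zr
  xr := h.xr k
  zx := h.zx k
  zy := h.zy k
  conj := h.conj k
  Bz := fun v hv => mem_of_comm (hB z rfl) (fun i _ => h.zx i) hv
  Bx := fun v hv => mem_of_comm (hB _ (h.zx k)) (fun i _ => h.xx k i) hv
  By := fun v hv => mem_of_comm (hB _ (h.zy k))
    (fun i hi => h.yx k i (fun e => by subst e; exact lt_irrefl _ hi)) hv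
  By' := fun v hv => mem_of_comm
    (hB _ (Commute.inv_right (show Commute z (y k) from h.zy k)))
    (fun i hi => by
      have h1 := h.yx k i (fun e => by subst e; exact lt_irrefl _ hi)
      calc (y k)⁻¹ * x i = (y k)⁻¹ * (x i * y k) * (y k)⁻¹ := by group
        _ = (y k)⁻¹ * (y k * x i) * (y k)⁻¹ := by rw [h1]
        _ = x i * (y k)⁻¹ := by group) hv
  free := fun v hv => hf v hv.1

theorem mem_succ {B : AddSubgroup A} {v : A} (k : Fin n) :
    v ∈ fix B x (k + 1) ↔ v ∈ fix B x k ∧ x k • v = v := by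
  constructor
  · intro hv
    exact ⟨⟨hv.1, fun i hi => hv.2 i (by omega)⟩, hv.2 k (by omega)⟩
  · rintro ⟨h1, h2⟩
    refine ⟨h1.1, fun i hi => ?_⟩
    rcases Nat.lt_succ_iff_lt_or_eq.1 hi with h3 | h3
    · exact h1.2 i h3
    · have : i = k := Fin.ext h3
      subst this; exact h2

/-- **The Heisenberg bound**, general form: a nontrivial subgroup `C ≤ B` (the common fixed points of the `x i` in
`B`) with `|C| ^ (r ^ n) ≤ |B|`. -/
theorem exists_sub [Finite A] (h : Heis r n z x y) {B : AddSubgroup A} (hB0 : B ≠ ⊥)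
    (hB : ∀ g : E, z * g = g * z → ∀ v ∈ B, g • v ∈ B)
    (ht : ∀ v ∈ B, r • v = 0 → v = 0) (hf : ∀ v ∈ B, z • v = v → v = 0) :
    ∃ C : AddSubgroup A, C ≠ ⊥ ∧ (∀ v, v ∈ C ↔ v ∈ B ∧ ∀ i, x i • v = v) ∧ Nat.card C ^ (r ^ n) ≤ Nat.card B := by
  have key : ∀ k : ℕ, k ≤ n → fix B x k ≠ ⊥ ∧ Nat.card (fix B x k) ^ (r ^ k) ≤ Nat.card B := by
    intro k
    induction k with
    | zero =>
      intro _
      have h0 : fix B x 0 = B := by
        ext v; simp [mem_fix]
      rw [h0]
      exact ⟨hB0, by simp⟩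
    | succ k ih =>
      intro hk
      obtain ⟨h1, h2⟩ := ih (by omega)
      have hs := h.step hB ht hf ⟨k, hk⟩
      constructor
      · obtain ⟨v, hv, hv0⟩ : ∃ v ∈ fix B x k, v ≠ 0 := by
          by_contra hcon
          push Not at hcon
          exact h1 ((AddSubgroup.eq_bot_iff_forall _).2 hcon)
        obtain ⟨w, hw, hxw, hw0⟩ := hs.exists_ne hv hv0
        intro hb
        apply hw0
        have : w ∈ fix B x (k + 1) := (mem_succ ⟨k, hk⟩).2 ⟨hw, hxw⟩
        rw [hb] at this
        exact this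
      · have h3 := hs.card_pow_le (C := fix B x (k + 1)) (fun v => mem_succ ⟨k, hk⟩)
        calc Nat.card (fix B x (k + 1)) ^ r ^ (k + 1)
            = (Nat.card (fix B x (k + 1)) ^ r) ^ r ^ k := by rw [← pow_mul, ← pow_succ']
          _ ≤ Nat.card (fix B x k) ^ r ^ k := Nat.pow_le_pow_left h3 _
          _ ≤ Nat.card B := h2
  obtain ⟨h1, h2⟩ := key n le_rfl
  exact ⟨fix B x n, h1, fun v => ⟨fun hv => ⟨hv.1, fun i => hv.2 i i.2⟩, fun hv => ⟨hv.1, fun i _ => hv.2 i⟩⟩, h2⟩

/-- `[A, z]`. -/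
def comm (A : Type*) [AddCommGroup A] [DistribMulAction E A] (z : E) : AddSubgroup A where
  carrier := {v | ∃ w : A, v = z • w - w}
  zero_mem' := ⟨0, by simp⟩
  add_mem' := by
    rintro _ _ ⟨a, rfl⟩ ⟨b, rfl⟩
    exact ⟨a + b, by rw [smul_add]; abel⟩
  neg_mem' := by
    rintro _ ⟨a, rfl⟩
    exact ⟨-a, by rw [smul_neg]; abel⟩

theorem comm_inv {g : E} (hg : z * g = g * z) {v : A} (hv : v ∈ comm A z) : g • v ∈ comm A z := by
  obtain ⟨w, rfl⟩ := hv
  exact ⟨g • w, by rw [smul_sub, smul_smul, smul_smul, hg]⟩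

theorem comm_free {r : ℕ} (hz : z ^ r = 1) (ht : ∀ v : A, r • v = 0 → v = 0) {v : A} (hv : v ∈ comm A z)
    (hf : z • v = v) : v = 0 := by
  obtain ⟨w, hw⟩ := hv
  apply ht
  have h1 : ∀ k : ℕ, z ^ k • w = w + k • v := by
    intro k
    induction k with
    | zero => simp
    | succ k ih =>
      have h3 : z • (k • v) = k • (z • v) := map_nsmul (DistribSMul.toAddMonoidHom A z) k v
      have h4 : z • w = w + v := by rw [hw]; abel
      rw [pow_succ', mul_smul, ih, smul_add, h3, hf, h4, succ_nsmul]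
      abel
  have h2 := h1 r
  rw [hz, one_smul] at h2
  exact (left_eq_add.1 h2)

end Heis

/-! ### Powers of two -/

/-- An automorphism of prime order without fixed points: `r ∣ |B| - 1`. -/
theorem modEq_one {r : ℕ} (hr : r.Prime) {z : E} (hz : z ^ r = 1) {B : AddSubgroup A} [Finite A]
    (hB : ∀ v ∈ B, z • v ∈ B) (hf : ∀ v ∈ B, z • v = v → v = 0) : Nat.card B ≡ 1 [MOD r] := by
  classical
  haveI : Fact r.Prime := ⟨hr⟩
  -- the action of `zpowers z` on `B`
  have hB' : ∀ g ∈ Subgroup.zpowers z, ∀ v ∈ B, g • v ∈ B := by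
    rintro g ⟨k, rfl⟩ v hv
    have h1 : z ^ (k : ℤ) = z ^ ((k % (r : ℤ)).toNat) := by
      have h2 : (r : ℤ) ≠ 0 := by exact_mod_cast hr.ne_zero
      have h3 : z ^ k = z ^ (k % (r : ℤ)) := by
        conv_lhs => rw [← Int.emod_add_mul_ediv k r, zpow_add, zpow_mul, zpow_natCast, hz, one_zpow, mul_one]
      rw [h3, ← zpow_natCast, Int.toNat_of_nonneg (Int.emod_nonneg _ h2)]
    show (z ^ (k : ℤ)) • v ∈ B
    rw [h1]
    exact pow_smul_mem hB _ hv
  letI : MulAction (Subgroup.zpowers z) B :=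
    { smul := fun g v => ⟨(g : E) • (v : A), hB' g g.2 v v.2⟩
      one_smul := fun v => Subtype.ext (one_smul _ _)
      mul_smul := fun g h v => Subtype.ext (mul_smul _ _ _) }
  have hp : IsPGroup r (Subgroup.zpowers z) := by
    intro g
    refine ⟨1, ?_⟩
    obtain ⟨g, k, rfl⟩ := g
    apply Subtype.ext
    show (z ^ k) ^ r ^ 1 = 1
    rw [pow_one, ← zpow_natCast, ← zpow_mul, mul_comm, zpow_mul, zpow_natCast, hz, one_zpow]
  have h1 := hp.card_modEq_card_fixedPoints B
  have h2 : Nat.card (MulAction.fixedPoints (Subgroup.zpowers z) B) = 1 := by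
    rw [Nat.card_eq_one_iff_unique]
    constructor
    · constructor
      intro v w
      have h3 : ∀ v : MulAction.fixedPoints (Subgroup.zpowers z) B, (v : B) = 0 := by
        intro v
        have := v.2 ⟨z, Subgroup.mem_zpowers z⟩
        exact Subtype.ext (hf _ (v : B).2 (congrArg Subtype.val this))
      exact Subtype.ext ((h3 v).trans (h3 w).symm)
    · exact ⟨⟨0, fun g => Subtype.ext (smul_zero (g : E))⟩⟩
  rwa [h2] at h1

theorem tors_of_two {r : ℕ} (hr : r.Prime) [Finite A] (h2 : IsPGroup 2 (Multiplicative A)) (hr2 : r ≠ 2) :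
    ∀ v : A, r • v = 0 → v = 0 := by
  haveI : Fact (Nat.Prime 2) := ⟨Nat.prime_two⟩
  obtain ⟨m, hm⟩ := IsPGroup.iff_card.1 h2
  have hm' : Nat.card A = 2 ^ m := hm
  have hcop : Nat.Coprime r (Nat.card A) := by
    rw [hm']
    exact Nat.Coprime.pow_right _ ((Nat.coprime_primes hr Nat.prime_two).2 hr2)
  intro v hv
  have h3 : addOrderOf v ∣ r := addOrderOf_dvd_of_nsmul_eq_zero hv
  have h4 : addOrderOf v ∣ Nat.card A := addOrderOf_dvd_natCard v
  have h5 := Nat.eq_one_of_dvd_coprimes hcop h3 h4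
  exact AddMonoid.addOrderOf_eq_one_iff.1 h5

/-- **The Heisenberg bound for `2`-groups**: `2 ^ (ord_r(2) * r ^ n) ≤ |[A, z]|`. -/
theorem Heis.two_pow_le_comm {r n : ℕ} {z : E} {x y : Fin n → E} [Finite A] (h : Heis r n z x y)
    (h2 : IsPGroup 2 (Multiplicative A)) (hr2 : r ≠ 2) (hf : ∃ v : A, z • v ≠ v) :
    2 ^ (orderOf (2 : ZMod r) * r ^ n) ≤ Nat.card (Heis.comm A z) := by
  haveI : Fact r.Prime := ⟨h.prime⟩
  haveI : Fact (Nat.Prime 2) := ⟨Nat.prime_two⟩
  obtain ⟨m, hm⟩ := IsPGroup.iff_card.1 h2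
  have hm' : Nat.card A = 2 ^ m := hm
  have ht := tors_of_two (A := A) h.prime h2 hr2
  have hB0 : Heis.comm A z ≠ ⊥ := by
    obtain ⟨v, hv⟩ := hf
    intro hb
    have h3 : z • v - v ∈ Heis.comm A z := ⟨v, rfl⟩
    rw [hb] at h3
    exact hv (sub_eq_zero.1 h3)
  obtain ⟨B, hB, hBi, hle⟩ := h.exists_sub hB0 (fun g hg v hv => Heis.comm_inv hg hv) (fun v _ => ht v)
    (fun v hv => Heis.comm_free h.zr ht hv)
  have h6 := modEq_one h.prime h.zr (B := B)
    (fun v hv => (hBi _).2 ⟨Heis.comm_inv rfl ((hBi v).1 hv).1, fun i => by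
      rw [smul_smul, ← h.zx i, mul_smul, ((hBi v).1 hv).2 i]⟩)
    (fun v hv => Heis.comm_free h.zr ht ((hBi v).1 hv).1)
  obtain ⟨k, -, hk⟩ := (Nat.dvd_prime_pow Nat.prime_two).1 (hm' ▸ AddSubgroup.card_addSubgroup_dvd_card B)
  have h7 : orderOf (2 : ZMod r) ≤ k := by
    have h8 : (2 : ZMod r) ^ k = 1 := by
      have := (ZMod.natCast_eq_natCast_iff _ _ _).2 (hk ▸ h6)
      simpa using this
    have h9 : k ≠ 0 := by
      rintro rfl
      apply hB
      rw [pow_zero] at hk
      exact AddSubgroup.card_eq_one.1 hk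
    exact orderOf_le_of_pow_eq_one (Nat.pos_of_ne_zero h9) h8
  calc 2 ^ (orderOf (2 : ZMod r) * r ^ n) ≤ 2 ^ (k * r ^ n) :=
        Nat.pow_le_pow_right (by norm_num) (Nat.mul_le_mul_right _ h7)
    _ = Nat.card B ^ r ^ n := by rw [hk, pow_mul]
    _ ≤ Nat.card (Heis.comm A z) := hle

/-- **The Heisenberg bound for `2`-groups**: `2 ^ (ord_r(2) * r ^ n) ≤ |A|` as soon as `z` is nontrivial on `A`. -/
theorem Heis.two_pow_le {r n : ℕ} {z : E} {x y : Fin n → E} [Finite A] (h : Heis r n z x y)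
    (h2 : IsPGroup 2 (Multiplicative A)) (hr2 : r ≠ 2) (hf : ∃ v : A, z • v ≠ v) :
    2 ^ (orderOf (2 : ZMod r) * r ^ n) ≤ Nat.card A :=
  (h.two_pow_le_comm h2 hr2 hf).trans (Nat.card_le_card_of_injective _ Subtype.val_injective)

/-- Group form: `φ : E →* MulAut V`, `V` an abelian `2`-group on which `z` is nontrivial. -/
theorem Heis.two_pow_le_mulAut {r n : ℕ} {z : E} {x y : Fin n → E} {V : Type*} [CommGroup V] [Finite V]
    (φ : E →* MulAut V) (h : Heis r n z x y) (h2 : IsPGroup 2 V) (hr2 : r ≠ 2) (hz : φ z ≠ 1) :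
    2 ^ (orderOf (2 : ZMod r) * r ^ n) ≤ Nat.card V := by
  letI : DistribMulAction E (Additive V) :=
    { smul := fun g v => Additive.ofMul (φ g v.toMul)
      one_smul := fun v => by
        show Additive.ofMul (φ 1 v.toMul) = v
        rw [map_one]; rfl
      mul_smul := fun g k v => by
        show Additive.ofMul (φ (g * k) v.toMul) = Additive.ofMul (φ g (φ k v.toMul))
        rw [map_mul]; rfl
      smul_zero := fun g => by
        show Additive.ofMul (φ g 1) = 0
        rw [map_one]; rfl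
      smul_add := fun g v w => by
        show Additive.ofMul (φ g (v.toMul * w.toMul)) = _
        rw [map_mul]; rfl }
  haveI : Finite (Additive V) := inferInstanceAs (Finite V)
  have h3 : ∃ v : Additive V, z • v ≠ v := by
    by_contra hcon
    push Not at hcon
    apply hz
    ext v
    exact congrArg Additive.toMul (hcon (Additive.ofMul v))
  have h4 : IsPGroup 2 (Multiplicative (Additive V)) := by
    intro g
    obtain ⟨k, hk⟩ := h2 (Additive.toMul (Multiplicative.toAdd g))
    exact ⟨k, hk⟩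
  exact h.two_pow_le (A := Additive V) h4 hr2 h3

/-- **The Heisenberg bound over a finite field**: `ord_r(|F|) * r ^ n ≤ dim_F W` if `r` is not the characteristic
of `F` and `z` is nontrivial on `W`. -/
theorem Heis.finrank_le {r n : ℕ} {z : E} {x y : Fin n → E} {F W : Type*} [Field F] [Finite F] [AddCommGroup W]
    [Module F W] [Finite W] (ρ : E →* (W →ₗ[F] W)) (h : Heis r n z x y) (hr : (r : F) ≠ 0)
    (hz : ρ z ≠ 1) : orderOf (Nat.card F : ZMod r) * r ^ n ≤ Module.finrank F W := by
  haveI : Fact r.Prime := ⟨h.prime⟩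
  letI : DistribMulAction E W :=
    { smul := fun g v => ρ g v
      one_smul := fun v => by
        show ρ 1 v = v
        rw [map_one]; rfl
      mul_smul := fun g k v => by
        show ρ (g * k) v = ρ g (ρ k v)
        rw [map_mul]; rfl
      smul_zero := fun g => map_zero (ρ g)
      smul_add := fun g v w => map_add (ρ g) v w }
  have hs : ∀ (g : E) (v : W), g • v = ρ g v := fun _ _ => rfl
  have ht : ∀ v : W, r • v = 0 → v = 0 := by
    intro v hv
    rw [← Nat.cast_smul_eq_nsmul F] at hv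
    exact (smul_eq_zero.1 hv).resolve_left hr
  have hB0 : Heis.comm W z ≠ ⊥ := by
    intro hb
    apply hz
    ext v
    have h3 : z • v - v ∈ Heis.comm W z := ⟨v, rfl⟩
    rw [hb] at h3
    exact sub_eq_zero.1 h3
  obtain ⟨B, hB, hBi, hle⟩ := h.exists_sub hB0 (fun g hg v hv => Heis.comm_inv hg hv) (fun v _ => ht v)
    (fun v hv => Heis.comm_free h.zr ht hv)
  have h6 := modEq_one h.prime h.zr (B := B)
    (fun v hv => (hBi _).2 ⟨Heis.comm_inv rfl ((hBi v).1 hv).1, fun i => by
      rw [smul_smul, ← h.zx i, mul_smul, ((hBi v).1 hv).2 i]⟩)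
    (fun v hv => Heis.comm_free h.zr ht ((hBi v).1 hv).1)
  let C : Submodule F W :=
    { B with
      smul_mem' := fun a v hv => by
        obtain ⟨⟨w, hw⟩, h8⟩ := (hBi v).1 hv
        refine (hBi (a • v)).2 ⟨⟨a • w, ?_⟩, fun i => ?_⟩
        · rw [hw, hs, hs, map_smul, smul_sub]
        · have h9 := h8 i
          rw [hs] at h9 ⊢
          rw [map_smul, h9] }
  have hC : Nat.card C = Nat.card B := rfl
  have h7 : Nat.card C = Nat.card F ^ Module.finrank F C := Module.natCard_eq_pow_finrank (K := F) (V := C)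
  have h7' : Nat.card W = Nat.card F ^ Module.finrank F W := Module.natCard_eq_pow_finrank (K := F) (V := W)
  have h8 : orderOf (Nat.card F : ZMod r) ≤ Module.finrank F C := by
    have h9 : (Nat.card F : ZMod r) ^ Module.finrank F C = 1 := by
      rw [← hC, h7] at h6
      have := (ZMod.natCast_eq_natCast_iff _ _ _).2 h6
      simpa using this
    have h10 : Module.finrank F C ≠ 0 := by
      intro h11
      apply hB
      rw [h11, pow_zero, hC] at h7
      exact AddSubgroup.card_eq_one.1 h7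
    exact orderOf_le_of_pow_eq_one (Nat.pos_of_ne_zero h10) h9
  have h9 : Nat.card F ^ (Module.finrank F C * r ^ n) ≤ Nat.card F ^ Module.finrank F W := by
    rw [← h7', pow_mul, ← h7, hC]
    exact hle.trans (Nat.card_le_card_of_injective _ Subtype.val_injective)
  have h10 := (Nat.pow_le_pow_iff_right (Finite.one_lt_card)).1 h9
  exact (Nat.mul_le_mul_right _ h8).trans h10

end Cfsg.Agent.Omega.Lie.Heis

end

-- merged: Cfsg.Agent.Omega.Lie.HeisCover
section

/-!
# Lower bounds for actions of perfect central extensions on `2`-groups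

* `exists_irr`: a nontrivial action of a perfect group on a finite abelian group has a nontrivial irreducible
  subquotient;
* `LB K m`: every nontrivial action of a finite perfect central extension of `K` with odd kernel on a finite
  abelian `2`-group `V` has `|V| ≥ 2 ^ m`; `LB.of_irr`: it is enough to treat faithful irreducible actions;
* `Heis.lift`: a Heisenberg configuration lifts to a central extension with kernel of order prime to `r`;
* `Heis.two_pow_le_lcm`: the Heisenberg bound with a fixed point free central element of prime order `s`;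
* `two_pow_le_lcm`: the case of one element of prime order.
-/

set_option autoImplicit false
set_option linter.dupNamespace false
set_option linter.style.haveILetI false
set_option linter.unusedVariables false

universe u u' v w

namespace Cfsg.Agent.Omega.Lie.Heis

section irr

variable {L : Type u} [Group L]

/-- Irreducible: no proper nontrivial invariant subgroup. -/
def Irr {V : Type w} [Group V] (φ : L →* MulAut V) : Prop :=
  ∀ U : Subgroup V, (∀ g, ∀ x ∈ U, φ g x ∈ U) → U = ⊥ ∨ U = ⊤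

/-- The action on an invariant subgroup. -/
def resAct {V : Type w} [Group V] (φ : L →* MulAut V) (U : Subgroup V) (hU : ∀ g, ∀ x ∈ U, φ g x ∈ U) :
    L →* MulAut U where
  toFun g :=
    { toFun := fun x => ⟨φ g x, hU g x x.2⟩
      invFun := fun x => ⟨φ g⁻¹ x, hU g⁻¹ x x.2⟩
      left_inv := fun x => Subtype.ext (by
        show φ g⁻¹ (φ g x) = x
        rw [← MulAut.mul_apply, ← map_mul, inv_mul_cancel, map_one]; rfl)
      right_inv := fun x => Subtype.ext (by
        show φ g (φ g⁻¹ x) = x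
        rw [← MulAut.mul_apply, ← map_mul, mul_inv_cancel, map_one]; rfl)
      map_mul' := fun x y => Subtype.ext (map_mul (φ g) _ _) }
  map_one' := MulEquiv.ext fun x => Subtype.ext (by
    show φ 1 (x : V) = x
    rw [map_one]; rfl)
  map_mul' g h := MulEquiv.ext fun x => Subtype.ext (by
    show φ (g * h) (x : V) = φ g (φ h x)
    rw [map_mul]; rfl)

@[simp] theorem resAct_apply {V : Type w} [Group V] (φ : L →* MulAut V) (U : Subgroup V)
    (hU : ∀ g, ∀ x ∈ U, φ g x ∈ U) (g : L) (x : U) : (resAct φ U hU g x : V) = φ g x := rfl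

/-- The action on the quotient by an invariant subgroup. -/
def quoAct {V : Type w} [CommGroup V] (φ : L →* MulAut V) (U : Subgroup V) (hU : ∀ g, ∀ x ∈ U, φ g x ∈ U) :
    L →* MulAut (V ⧸ U) where
  toFun g :=
    { toFun := QuotientGroup.map U U (φ g).toMonoidHom (fun x hx => hU g x hx)
      invFun := QuotientGroup.map U U (φ g⁻¹).toMonoidHom (fun x hx => hU g⁻¹ x hx)
      left_inv := fun x => by
        obtain ⟨x, rfl⟩ := QuotientGroup.mk_surjective x
        show ((φ g⁻¹ (φ g x) : V) : V ⧸ U) = x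
        rw [← MulAut.mul_apply, ← map_mul, inv_mul_cancel, map_one]; rfl
      right_inv := fun x => by
        obtain ⟨x, rfl⟩ := QuotientGroup.mk_surjective x
        show ((φ g (φ g⁻¹ x) : V) : V ⧸ U) = x
        rw [← MulAut.mul_apply, ← map_mul, mul_inv_cancel, map_one]; rfl
      map_mul' := fun x y => map_mul _ _ _ }
  map_one' := MulEquiv.ext fun x => by
    obtain ⟨x, rfl⟩ := QuotientGroup.mk_surjective x
    show ((φ 1 x : V) : V ⧸ U) = x
    rw [map_one]; rfl
  map_mul' g h := MulEquiv.ext fun x => by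
    obtain ⟨x, rfl⟩ := QuotientGroup.mk_surjective x
    show ((φ (g * h) x : V) : V ⧸ U) = ((φ g (φ h x) : V) : V ⧸ U)
    rw [map_mul]; rfl

@[simp] theorem quoAct_apply {V : Type w} [CommGroup V] (φ : L →* MulAut V) (U : Subgroup V)
    (hU : ∀ g, ∀ x ∈ U, φ g x ∈ U) (g : L) (x : V) : quoAct φ U hU g (x : V ⧸ U) = ((φ g x : V) : V ⧸ U) := rfl

/-- A perfect group acting trivially on `U` and `V ⧸ U` acts trivially. -/
theorem trivial_of_res_quo (hL : commutator L = ⊤) {V : Type w} [CommGroup V] (φ : L →* MulAut V) (U : Subgroup V)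
    (h1 : ∀ g, ∀ x ∈ U, φ g x = x) (h2 : ∀ g x, φ g x * x⁻¹ ∈ U) : φ = 1 := by
  ext g x
  -- `g ↦ φ g x * x⁻¹` is a homomorphism into the abelian group `U`
  let f : L →* U :=
    { toFun := fun g => ⟨φ g x * x⁻¹, h2 g x⟩
      map_one' := Subtype.ext (by simp)
      map_mul' := fun g h => Subtype.ext (by
        show φ (g * h) x * x⁻¹ = (φ g x * x⁻¹) * (φ h x * x⁻¹)
        have h3 : φ h x = (φ h x * x⁻¹) * x := by group
        rw [map_mul, MulAut.mul_apply]
        conv_lhs => rw [h3, map_mul, h1 g _ (h2 h x)]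
        rw [mul_assoc, mul_comm]) }
  have h3 : f g = 1 := by
    have h4 : g ∈ commutator L := hL ▸ Subgroup.mem_top g
    exact (Abelianization.commutator_subset_ker f) h4
  have h5 : φ g x * x⁻¹ = 1 := congrArg Subtype.val h3
  simpa using (mul_inv_eq_one.1 h5)

/-- A nontrivial irreducible subquotient. -/
theorem exists_irr (hL : commutator L = ⊤) {V : Type w} [CommGroup V] [Finite V] (φ : L →* MulAut V) (hφ : φ ≠ 1)
    (h2 : IsPGroup 2 V) :
    ∃ (W : Type w) (_ : CommGroup W) (_ : Finite W) (ψ : L →* MulAut W),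
      IsPGroup 2 W ∧ ψ ≠ 1 ∧ Irr ψ ∧ Nat.card W ≤ Nat.card V := by
  suffices H : ∀ (m : ℕ) (V : Type w) [CommGroup V] [Finite V] (φ : L →* MulAut V), φ ≠ 1 → IsPGroup 2 V →
      Nat.card V ≤ m → ∃ (W : Type w) (_ : CommGroup W) (_ : Finite W) (ψ : L →* MulAut W),
      IsPGroup 2 W ∧ ψ ≠ 1 ∧ Irr ψ ∧ Nat.card W ≤ Nat.card V from H _ V φ hφ h2 le_rfl
  intro m
  induction m with
  | zero =>
    intro V _ _ φ _ _ hm
    have := Nat.card_pos (α := V)
    omega
  | succ m ih =>
    intro V _ _ φ hφ h2 hm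
    by_cases hirr : Irr φ
    · exact ⟨V, inferInstance, inferInstance, φ, h2, hφ, hirr, le_rfl⟩
    · unfold Irr at hirr
      push Not at hirr
      obtain ⟨U, hU, hb, ht⟩ := hirr
      have hc := Subgroup.card_mul_index U
      have hU1 : 1 < Nat.card U := (Subgroup.one_lt_card_iff_ne_bot U).2 hb
      have hU2 : 1 < U.index := by
        have h3 : U.index ≠ 0 := Subgroup.index_ne_zero_of_finite
        have h4 : U.index ≠ 1 := fun e => ht (Subgroup.index_eq_one.1 e)
        omega
      by_cases h3 : resAct φ U hU = 1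
      · by_cases h4 : quoAct φ U hU = 1
        · exfalso
          apply hφ
          apply trivial_of_res_quo hL φ U
          · intro g x hx
            have := congrArg Subtype.val (DFunLike.congr_fun (DFunLike.congr_fun h3 g) ⟨x, hx⟩)
            simpa using this
          · intro g x
            have h5 := DFunLike.congr_fun (DFunLike.congr_fun h4 g) (x : V ⧸ U)
            have h6 : ((φ g x : V) : V ⧸ U) = (x : V ⧸ U) := h5
            have h7 := (QuotientGroup.eq.1 h6.symm)
            rwa [mul_comm] at h7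
        · have h5 : Nat.card (V ⧸ U) < Nat.card V := by
            rw [← Subgroup.index_eq_card, ← hc]
            nlinarith
          obtain ⟨W, i1, i2, ψ, h6, h7, h8, h9⟩ := ih (V ⧸ U) (quoAct φ U hU) h4
            (h2.to_quotient U) (by omega)
          exact ⟨W, i1, i2, ψ, h6, h7, h8, h9.trans h5.le⟩
      · have h5 : Nat.card U < Nat.card V := by
          rw [← hc]
          nlinarith
        obtain ⟨W, i1, i2, ψ, h6, h7, h8, h9⟩ := ih U (resAct φ U hU) h3 (h2.to_subgroup U) (by omega)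
        exact ⟨W, i1, i2, ψ, h6, h7, h8, h9.trans h5.le⟩

/-- A central element acting nontrivially in an irreducible action is fixed point free. -/
theorem Irr.free {V : Type w} [Group V] {φ : L →* MulAut V} (hi : Irr φ) {c : L}
    (hc : c ∈ Subgroup.center L) (hc1 : φ c ≠ 1) {x : V} (hx : φ c x = x) : x = 1 := by
  let U : Subgroup V :=
    { carrier := {x | φ c x = x}
      one_mem' := map_one _
      mul_mem' := fun {a b} ha hb => by
        show φ c (a * b) = a * b
        rw [map_mul, show φ c a = a from ha, show φ c b = b from hb]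
      inv_mem' := fun {a} ha => by
        show φ c a⁻¹ = a⁻¹
        rw [map_inv, show φ c a = a from ha] }
  have hU : ∀ g, ∀ x ∈ U, φ g x ∈ U := by
    intro g x hx
    show φ c (φ g x) = φ g x
    rw [← MulAut.mul_apply, ← map_mul, ← Subgroup.mem_center_iff.1 hc g, map_mul, MulAut.mul_apply,
      show φ c x = x from hx]
  rcases hi U hU with h | h
  · have : x ∈ U := hx
    rw [h] at this
    exact Subgroup.mem_bot.1 this
  · exfalso
    apply hc1
    ext y
    have : y ∈ U := h ▸ Subgroup.mem_top y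
    exact this

end irr

/-! ### Perfect central extensions with odd kernel -/

/-- Every nontrivial action of a finite perfect central extension of `K` with kernel of odd order on a finite
abelian `2`-group `V` has `|V| ≥ 2 ^ m`. -/
def LB (K : Type u) [Group K] (m : ℕ) : Prop :=
  ∀ (L : Type v) [Group L] [Finite L] (π : L →* K), Function.Surjective π → π.ker ≤ Subgroup.center L →
    Odd (Nat.card π.ker) → commutator L = ⊤ → ∀ (V : Type w) [CommGroup V] [Finite V], IsPGroup 2 V →
    ∀ φ : L →* MulAut V, φ ≠ 1 → 2 ^ m ≤ Nat.card V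

theorem LB.mono {K : Type u} [Group K] {m k : ℕ} (h : LB.{u, v, w} K m) (hk : k ≤ m) : LB.{u, v, w} K k :=
  fun L _ _ π h1 h2 h3 h4 V _ _ h5 φ h6 =>
    (Nat.pow_le_pow_right (by norm_num) hk).trans (h L π h1 h2 h3 h4 V h5 φ h6)

/-- Transport along an isomorphism. -/
theorem LB.congr {K : Type u} [Group K] {K' : Type u'} [Group K'] {m : ℕ} (h : LB.{u, v, w} K m) (e : K ≃* K') :
    LB.{u', v, w} K' m := by
  intro L _ _ π h1 h2 h3 h4 V _ _ h5 φ h6
  have hk : (e.symm.toMonoidHom.comp π).ker = π.ker := by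
    ext x
    simp [MonoidHom.mem_ker]
  exact h L (e.symm.toMonoidHom.comp π) (e.symm.surjective.comp h1) (hk ▸ h2) (hk ▸ h3) h4 V h5 φ h6

/-- The kernel of a nontrivial action of a perfect central extension of a simple group is central. -/
theorem ker_le_ker {K : Type u} [Group K] [IsSimpleGroup K] {L : Type v} [Group L] {M : Type w} [Group M]
    {π : L →* K} (hπ : Function.Surjective π) (hc : π.ker ≤ Subgroup.center L) (hL : commutator L = ⊤)
    {φ : L →* M} (hφ : φ ≠ 1) : φ.ker ≤ π.ker := by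
  have h1 : (φ.ker.map π).Normal := Subgroup.Normal.map inferInstance π hπ
  rcases h1.eq_bot_or_eq_top with h2 | h2
  · exact fun x hx => by
      have : π x ∈ φ.ker.map π := ⟨x, hx, rfl⟩
      rw [h2] at this
      exact Subgroup.mem_bot.1 this
  · exfalso
    apply hφ
    -- `L = ker φ * ker π`
    have h3 : ∀ g : L, ∃ a ∈ φ.ker, ∃ c ∈ π.ker, g = a * c := by
      intro g
      have h4 : π g ∈ φ.ker.map π := h2 ▸ Subgroup.mem_top _
      obtain ⟨a, ha, hag⟩ := h4
      exact ⟨a, ha, a⁻¹ * g, by rw [MonoidHom.mem_ker, map_mul, map_inv, hag, inv_mul_cancel], by group⟩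
    -- the image of `φ` is abelian
    have h5 : ∀ g h : L, φ g * φ h = φ h * φ g := by
      intro g h
      obtain ⟨a, ha, c, hc', rfl⟩ := h3 g
      obtain ⟨b, hb, d, hd, rfl⟩ := h3 h
      rw [map_mul, map_mul, MonoidHom.mem_ker.1 ha, MonoidHom.mem_ker.1 hb, one_mul, one_mul, ← map_mul,
        ← map_mul, Subgroup.mem_center_iff.1 (hc hd) c]
    have h6 : commutator L ≤ φ.ker := by
      rw [commutator_def, Subgroup.commutator_le]
      intro g _ h _
      rw [MonoidHom.mem_ker, map_commutatorElement, commutatorElement_eq_one_iff_mul_comm]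
      exact h5 g h
    ext g
    exact h6 (hL ▸ Subgroup.mem_top g)

/-- It is enough to treat faithful irreducible actions. -/
theorem LB.of_irr {K : Type u} [Group K] [IsSimpleGroup K] {m : ℕ}
    (H : ∀ (L : Type v) [Group L] [Finite L] (π : L →* K), Function.Surjective π → π.ker ≤ Subgroup.center L →
      Odd (Nat.card π.ker) → commutator L = ⊤ → ∀ (V : Type w) [CommGroup V] [Finite V], IsPGroup 2 V →
      ∀ φ : L →* MulAut V, Function.Injective φ → Irr φ → 2 ^ m ≤ Nat.card V) : LB.{u, v, w} K m := by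
  intro L _ _ π hπ hc ho hL V _ _ h2 φ hφ
  obtain ⟨W, _, _, ψ, h3, h4, h5, h6⟩ := exists_irr hL φ hφ h2
  refine le_trans ?_ h6
  have h7 : ψ.ker ≤ π.ker := ker_le_ker hπ hc hL h4
  let π' : L ⧸ ψ.ker →* K := QuotientGroup.lift ψ.ker π h7
  have hπ' : ∀ g : L, π' (g : L ⧸ ψ.ker) = π g := fun g => rfl
  have hk : π'.ker = π.ker.map (QuotientGroup.mk' ψ.ker) := by
    ext x
    obtain ⟨g, rfl⟩ := QuotientGroup.mk_surjective x
    rw [MonoidHom.mem_ker, hπ']
    constructor
    · intro hg
      exact ⟨g, hg, rfl⟩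
    · rintro ⟨a, ha, hag⟩
      have h8 : (a : L ⧸ ψ.ker) = (g : L ⧸ ψ.ker) := hag
      have h9 := congrArg π' h8
      rw [hπ', hπ'] at h9
      rw [← h9]
      exact ha
  refine H (L ⧸ ψ.ker) π' ?_ ?_ ?_ ?_ W h3 (QuotientGroup.kerLift ψ) (QuotientGroup.kerLift_injective ψ) ?_
  · intro k
    obtain ⟨g, rfl⟩ := hπ k
    exact ⟨g, rfl⟩
  · rw [hk]
    rintro _ ⟨a, ha, rfl⟩
    rw [Subgroup.mem_center_iff]
    intro y
    obtain ⟨g, rfl⟩ := QuotientGroup.mk_surjective y
    show ((g * a : L) : L ⧸ ψ.ker) = ((a * g : L) : L ⧸ ψ.ker)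
    rw [Subgroup.mem_center_iff.1 (hc ha) g]
  · rw [hk]
    exact Odd.of_dvd_nat ho (Subgroup.card_map_dvd _ _)
  · rw [eq_top_iff]
    rintro x -
    obtain ⟨g, rfl⟩ := QuotientGroup.mk_surjective x
    have h8 : g ∈ commutator L := hL ▸ Subgroup.mem_top g
    have h9 : (commutator L).map (QuotientGroup.mk' ψ.ker) ≤ commutator (L ⧸ ψ.ker) := by
      rw [commutator_def, commutator_def, Subgroup.map_commutator]
      exact Subgroup.commutator_mono le_top le_top
    exact h9 ⟨g, h8, rfl⟩
  · intro U hU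
    exact h5 U (fun g x hx => hU (g : L ⧸ ψ.ker) x hx)

/-! ### Lifting Heisenberg configurations -/

section lift

variable {L : Type v} {K : Type u} [Group L] [Group K] {π : L →* K}

/-- Elements of order `r` lift to elements of order `r` if `r` is prime to the order of the kernel. -/
theorem exists_lift {r : ℕ} (hπ : Function.Surjective π) (hc : π.ker ≤ Subgroup.center L) [Finite π.ker]
    (hco : Nat.Coprime r (Nat.card π.ker)) {g : K} (hg : g ^ r = 1) : ∃ a : L, π a = g ∧ a ^ r = 1 := by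
  obtain ⟨b, rfl⟩ := hπ g
  have hb : b ^ r ∈ π.ker := by rw [MonoidHom.mem_ker, map_pow, hg]
  -- `c ∈ ker π` with `c ^ r = b ^ r`
  obtain ⟨k, hk⟩ := exists_pow_eq_self_of_coprime (n := r) (x := b ^ r) (by
    have h1 : orderOf (b ^ r) ∣ Nat.card π.ker := by
      have := orderOf_dvd_natCard (⟨b ^ r, hb⟩ : π.ker)
      rwa [Subgroup.orderOf_mk] at this
    exact Nat.Coprime.coprime_dvd_right h1 hco)
  have hck : (b ^ r) ^ k ∈ π.ker := π.ker.pow_mem hb k
  refine ⟨b * ((b ^ r) ^ k)⁻¹, ?_, ?_⟩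
  · rw [map_mul, map_inv, MonoidHom.mem_ker.1 hck, inv_one, mul_one]
  · have h2 : Commute b ((b ^ r) ^ k)⁻¹ :=
      ((Commute.refl b).pow_right r |>.pow_right k).inv_right
    rw [h2.mul_pow, inv_pow, ← pow_mul, mul_comm k r, pow_mul, hk, mul_inv_cancel]

/-- Commuting modulo a central kernel of order prime to `r` and `a ^ r = 1` imply commuting. -/
theorem comm_of_comm {r : ℕ} (hc : π.ker ≤ Subgroup.center L) [Finite π.ker]
    (hco : Nat.Coprime r (Nat.card π.ker)) {a b : L} (ha : a ^ r = 1) (h : π a * π b = π b * π a) :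
    a * b = b * a := by
  -- `b⁻¹ a b = a c`, `c` central
  set c := a⁻¹ * (b⁻¹ * a * b) with hcd
  have h1 : c ∈ π.ker := by
    rw [MonoidHom.mem_ker, hcd, map_mul, map_mul, map_mul, map_inv, map_inv]
    calc (π a)⁻¹ * ((π b)⁻¹ * π a * π b) = (π a)⁻¹ * (π b)⁻¹ * (π a * π b) := by group
      _ = (π a)⁻¹ * (π b)⁻¹ * (π b * π a) := by rw [h]
      _ = 1 := by group
  have h2 : Commute a c := (Subgroup.mem_center_iff.1 (hc h1) a)
  have h3 : c ^ r = 1 := by
    have h4 : (a * c) ^ r = 1 := by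
      have h5 : a * c = b⁻¹ * a * b := by rw [hcd]; group
      have h6 : (b⁻¹ * a * b) ^ r = b⁻¹ * a ^ r * b := by
        have := conj_pow (i := r) (a := b⁻¹) (b := a)
        rwa [inv_inv] at this
      rw [h5, h6, ha]; group
    rw [h2.mul_pow, ha, one_mul] at h4
    exact h4
  have h4 : c = 1 := by
    have h5 : orderOf c ∣ r := orderOf_dvd_of_pow_eq_one h3
    have h6 : orderOf c ∣ Nat.card π.ker := by
      have := orderOf_dvd_natCard (⟨c, h1⟩ : π.ker)
      rwa [Subgroup.orderOf_mk] at this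
    exact orderOf_eq_one_iff.1 (Nat.eq_one_of_dvd_coprimes hco h5 h6)
  have h5 : b⁻¹ * a * b = a := by
    calc b⁻¹ * a * b = a * c := by rw [hcd]; group
      _ = a := by rw [h4, mul_one]
  calc a * b = b * (b⁻¹ * a * b) := by group
    _ = b * a := by rw [h5]

/-- Two lifts of the same element with trivial `r`-th powers are equal. -/
theorem lift_unique {r : ℕ} (hc : π.ker ≤ Subgroup.center L) [Finite π.ker]
    (hco : Nat.Coprime r (Nat.card π.ker)) {a b : L} (ha : a ^ r = 1) (hb : b ^ r = 1) (h : π a = π b) :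
    a = b := by
  have h1 : a * b⁻¹ ∈ π.ker := by rw [MonoidHom.mem_ker, map_mul, map_inv, h, mul_inv_cancel]
  have h0 : a * b = b * a := comm_of_comm hc hco ha (by rw [h])
  have h2 : (a * b⁻¹) ^ r = 1 := by
    have h3 : Commute a b⁻¹ := (show Commute a b from h0).inv_right
    rw [h3.mul_pow, ha, inv_pow, hb, inv_one, one_mul]
  have h5 : orderOf (a * b⁻¹) ∣ r := orderOf_dvd_of_pow_eq_one h2
  have h6 : orderOf (a * b⁻¹) ∣ Nat.card π.ker := by
    have := orderOf_dvd_natCard (⟨a * b⁻¹, h1⟩ : π.ker)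
    rwa [Subgroup.orderOf_mk] at this
  exact mul_inv_eq_one.1 (orderOf_eq_one_iff.1 (Nat.eq_one_of_dvd_coprimes hco h5 h6))

/-- **Lifting of Heisenberg configurations.** -/
theorem Heis.lift {r n : ℕ} {z : K} {x y : Fin n → K} (h : Heis r n z x y)
    (hπ : Function.Surjective π) (hc : π.ker ≤ Subgroup.center L) [Finite π.ker]
    (hco : Nat.Coprime r (Nat.card π.ker)) :
    ∃ (z' : L) (x' y' : Fin n → L), π z' = z ∧ (∀ i, π (x' i) = x i) ∧ (∀ i, π (y' i) = y i) ∧
      Heis r n z' x' y' := by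
  obtain ⟨z', hz', hzr⟩ := exists_lift hπ hc hco h.zr
  choose x' hx' hxr using fun i => exists_lift hπ hc hco (h.xr i)
  choose y' hy' using fun i => hπ (y i)
  refine ⟨z', x', y', hz', hx', hy', h.prime, hzr, hxr, fun i => ?_, fun i => ?_, fun i j => ?_, fun i j hij => ?_,
    fun i => ?_⟩
  · exact comm_of_comm hc hco hzr (by rw [hz', hx', h.zx])
  · exact comm_of_comm hc hco hzr (by rw [hz', hy', h.zy])
  · exact comm_of_comm hc hco (hxr i) (by rw [hx', hx', h.xx])
  · exact (comm_of_comm hc hco (hxr j) (by rw [hx', hy', h.yx i j hij])).symm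
  · apply lift_unique (r := r) hc hco
    · rw [conj_pow, hxr]; group
    · have h1 : Commute (x' i) z' := (comm_of_comm hc hco hzr (by rw [hz', hx', h.zx])).symm
      rw [h1.mul_pow, hxr, hzr, one_mul]
    · rw [map_mul, map_mul, map_mul, map_inv, hx', hy', hz', h.conj]

end lift

/-! ### Two primes -/

section lcm

variable {E : Type u} {A : Type v} [Group E] [AddCommGroup A] [DistribMulAction E A]

theorem card_comm_modEq {s : ℕ} (hs : s.Prime) {c : E} (hc : c ^ s = 1) [Finite A]
    (hcf : ∀ v : A, c • v = v → v = 0) {C : AddSubgroup A} (hC : ∀ v ∈ C, c • v ∈ C) :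
    Nat.card C ≡ 1 [MOD s] :=
  modEq_one hs hc hC (fun v _ => hcf v)

theorem orderOf_dvd_of_modEq {r k : ℕ} (h : 2 ^ k ≡ 1 [MOD r]) : orderOf (2 : ZMod r) ∣ k := by
  apply orderOf_dvd_of_pow_eq_one
  have := (ZMod.natCast_eq_natCast_iff _ _ _).2 h
  simpa using this

/-- **The Heisenberg bound with a fixed point free element `c` of prime order `s`** commuting with `z` and the
`x i`. -/
theorem Heis.two_pow_le_lcm {r n s : ℕ} {z c : E} {x y : Fin n → E} [Finite A] (h : Heis r n z x y)
    (h2 : IsPGroup 2 (Multiplicative A)) (hr2 : r ≠ 2) (hf : ∃ v : A, z • v ≠ v)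
    (hs : s.Prime) (hc : c ^ s = 1) (hcz : z * c = c * z) (hcx : ∀ i, x i * c = c * x i)
    (hcf : ∀ v : A, c • v = v → v = 0) :
    2 ^ (Nat.lcm (orderOf (2 : ZMod r)) (orderOf (2 : ZMod s)) * r ^ n) ≤ Nat.card A := by
  haveI : Fact (Nat.Prime 2) := ⟨Nat.prime_two⟩
  obtain ⟨m, hm⟩ := IsPGroup.iff_card.1 h2
  have hm' : Nat.card A = 2 ^ m := hm
  have ht := tors_of_two (A := A) h.prime h2 hr2
  have hB0 : Heis.comm A z ≠ ⊥ := by
    obtain ⟨v, hv⟩ := hf
    intro hb
    have h3 : z • v - v ∈ Heis.comm A z := ⟨v, rfl⟩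
    rw [hb] at h3
    exact hv (sub_eq_zero.1 h3)
  obtain ⟨B, hB, hBi, hle⟩ := h.exists_sub hB0 (fun g hg v hv => Heis.comm_inv hg hv) (fun v _ => ht v)
    (fun v hv => Heis.comm_free h.zr ht hv)
  have h6 := modEq_one h.prime h.zr (B := B)
    (fun v hv => (hBi _).2 ⟨Heis.comm_inv rfl ((hBi v).1 hv).1, fun i => by
      rw [smul_smul, ← h.zx i, mul_smul, ((hBi v).1 hv).2 i]⟩)
    (fun v hv => Heis.comm_free h.zr ht ((hBi v).1 hv).1)
  have h6' := card_comm_modEq hs hc hcf (C := B)
    (fun v hv => (hBi _).2 ⟨Heis.comm_inv hcz ((hBi v).1 hv).1, fun i => by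
      rw [smul_smul, hcx i, mul_smul, ((hBi v).1 hv).2 i]⟩)
  obtain ⟨k, -, hk⟩ := (Nat.dvd_prime_pow Nat.prime_two).1 (hm' ▸ AddSubgroup.card_addSubgroup_dvd_card B)
  have h9 : k ≠ 0 := by
    rintro rfl
    apply hB
    rw [pow_zero] at hk
    exact AddSubgroup.card_eq_one.1 hk
  rw [hk] at h6 h6'
  have h7 : Nat.lcm (orderOf (2 : ZMod r)) (orderOf (2 : ZMod s)) ≤ k :=
    Nat.le_of_dvd (Nat.pos_of_ne_zero h9) (Nat.lcm_dvd (orderOf_dvd_of_modEq h6) (orderOf_dvd_of_modEq h6'))
  calc 2 ^ (Nat.lcm (orderOf (2 : ZMod r)) (orderOf (2 : ZMod s)) * r ^ n) ≤ 2 ^ (k * r ^ n) :=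
        Nat.pow_le_pow_right (by norm_num) (Nat.mul_le_mul_right _ h7)
    _ = Nat.card B ^ r ^ n := by rw [hk, pow_mul]
    _ ≤ Nat.card (Heis.comm A z) := hle
    _ ≤ Nat.card A := Nat.card_le_card_of_injective _ Subtype.val_injective

end lcm

/-- The additive group with the action of a homomorphism `φ : E →* MulAut V`. -/
@[reducible] def addAct {E : Type u} [Group E] {V : Type v} [CommGroup V] (φ : E →* MulAut V) :
    DistribMulAction E (Additive V) where
  smul := fun g v => Additive.ofMul (φ g v.toMul)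
  one_smul := fun v => by
    show Additive.ofMul (φ 1 v.toMul) = v
    rw [map_one]; rfl
  mul_smul := fun g k v => by
    show Additive.ofMul (φ (g * k) v.toMul) = Additive.ofMul (φ g (φ k v.toMul))
    rw [map_mul]; rfl
  smul_zero := fun g => by
    show Additive.ofMul (φ g 1) = 0
    rw [map_one]; rfl
  smul_add := fun g v w => by
    show Additive.ofMul (φ g (v.toMul * w.toMul)) = _
    rw [map_mul]; rfl

/-- Group form of `Heis.two_pow_le_lcm`. -/
theorem Heis.two_pow_le_lcm_mulAut {E : Type u} [Group E] {r n s : ℕ} {z c : E} {x y : Fin n → E} {V : Type v}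
    [CommGroup V] [Finite V] (φ : E →* MulAut V) (h : Heis r n z x y)
    (h2 : IsPGroup 2 V) (hr2 : r ≠ 2) (hz : φ z ≠ 1)
    (hs : s.Prime) (hc : c ^ s = 1) (hcz : z * c = c * z) (hcx : ∀ i, x i * c = c * x i)
    (hcf : ∀ v : V, φ c v = v → v = 1) :
    2 ^ (Nat.lcm (orderOf (2 : ZMod r)) (orderOf (2 : ZMod s)) * r ^ n) ≤ Nat.card V := by
  letI := addAct φ
  haveI : Finite (Additive V) := inferInstanceAs (Finite V)
  have h3 : ∃ v : Additive V, z • v ≠ v := by
    by_contra hcon
    push Not at hcon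
    apply hz
    ext v
    exact congrArg Additive.toMul (hcon (Additive.ofMul v))
  have h4 : IsPGroup 2 (Multiplicative (Additive V)) := by
    intro g
    obtain ⟨k, hk⟩ := h2 (Additive.toMul (Multiplicative.toAdd g))
    exact ⟨k, hk⟩
  exact h.two_pow_le_lcm (A := Additive V) h4 hr2 h3 hs hc hcz hcx (fun v hv => hcf v.toMul hv)

/-- One element of prime order. -/
theorem heis_zero {E : Type u} [Group E] {r : ℕ} (hr : r.Prime) {z : E} (hz : z ^ r = 1) :
    Heis r 0 z (fun i : Fin 0 => i.elim0) (fun i : Fin 0 => i.elim0) where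
  prime := hr
  zr := hz
  xr := fun i => i.elim0
  zx := fun i => i.elim0
  zy := fun i => i.elim0
  xx := fun i => i.elim0
  yx := fun i => i.elim0
  conj := fun i => i.elim0

/-! ### Rows -/

/-- A prime divisor `p` of `|K|`: `|V| ≥ 2 ^ ord_p(2)`. -/
theorem LB.prime {K : Type u} [Group K] [Finite K] [IsSimpleGroup K] {p m : ℕ} (hp : p.Prime) (hp2 : p ≠ 2)
    (hpK : p ∣ Nat.card K) (hm : m ≤ orderOf (2 : ZMod p)) : LB.{u, v, w} K m := by
  apply LB.of_irr
  intro L _ _ π hπ hc ho hL V _ _ h2 φ hφ hirr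
  haveI : Fact p.Prime := ⟨hp⟩
  have h3 : p ∣ Nat.card L := hpK.trans (Subgroup.card_dvd_of_surjective π hπ)
  obtain ⟨g, hg⟩ := exists_prime_orderOf_dvd_card' p h3
  have h4 : φ g ≠ 1 := by
    intro h5
    have h6 : g = 1 := hφ (h5.trans (map_one φ).symm)
    rw [h6, orderOf_one] at hg
    exact hp.ne_one hg.symm
  have h5 := (heis_zero hp (z := g) (by rw [← hg]; exact pow_orderOf_eq_one g)).two_pow_le_mulAut φ h2 hp2 h4
  rw [pow_zero, mul_one] at h5
  exact (Nat.pow_le_pow_right (by norm_num) hm).trans h5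

/-- **The Heisenberg row**: a Heisenberg configuration in `K` for the prime `r`, and another prime `p` for the
covers whose centre has order divisible by `r`. -/
theorem LB.heis {K : Type u} [Group K] [Finite K] [IsSimpleGroup K] {r n : ℕ} {z : K} {x y : Fin n → K}
    (h : Heis r n z x y) (hr2 : r ≠ 2) (hz : z ≠ 1) {p m : ℕ} (hp : p.Prime) (hp2 : p ≠ 2)
    (hpK : p ∣ Nat.card K) (hm : m ≤ orderOf (2 : ZMod r) * r ^ n)
    (hm' : m ≤ Nat.lcm (orderOf (2 : ZMod p)) (orderOf (2 : ZMod r))) : LB.{u, v, w} K m := by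
  apply LB.of_irr
  intro L _ _ π hπ hc ho hL V _ _ h2 φ hφ hirr
  haveI : Fact r.Prime := ⟨h.prime⟩
  haveI : Fact p.Prime := ⟨hp⟩
  by_cases hrZ : r ∣ Nat.card π.ker
  · -- an element `c` of order `r` in the centre
    obtain ⟨c, hc1⟩ := exists_prime_orderOf_dvd_card' r hrZ
    have hcr : (c : L) ^ r = 1 := by
      have : c ^ r = 1 := by rw [← hc1]; exact pow_orderOf_eq_one c
      exact congrArg Subtype.val this
    have hcne : (c : L) ≠ 1 := by
      intro h5
      have h6 : c = 1 := Subtype.ext h5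
      rw [h6, orderOf_one] at hc1
      exact h.prime.ne_one hc1.symm
    have hcc : (c : L) ∈ Subgroup.center L := hc c.2
    have hcf : ∀ v : V, φ c v = v → v = 1 := fun v hv =>
      hirr.free hcc (fun h5 => hcne (hφ (h5.trans (map_one φ).symm))) hv
    have h3 : p ∣ Nat.card L := hpK.trans (Subgroup.card_dvd_of_surjective π hπ)
    obtain ⟨g, hg⟩ := exists_prime_orderOf_dvd_card' p h3
    have h4 : φ g ≠ 1 := by
      intro h5
      have h6 : g = 1 := hφ (h5.trans (map_one φ).symm)
      rw [h6, orderOf_one] at hg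
      exact hp.ne_one hg.symm
    have h5 := (heis_zero hp (z := g) (by rw [← hg]; exact pow_orderOf_eq_one g)).two_pow_le_lcm_mulAut φ h2 hp2 h4
      h.prime hcr (Subgroup.mem_center_iff.1 hcc g) (fun i => i.elim0) hcf
    rw [pow_zero, mul_one] at h5
    exact (Nat.pow_le_pow_right (by norm_num) hm').trans h5
  · obtain ⟨z', x', y', hz', -, -, h'⟩ := h.lift hπ hc ((Nat.Prime.coprime_iff_not_dvd h.prime).2 hrZ)
    have h4 : φ z' ≠ 1 := by
      intro h5
      have h6 : z' = 1 := hφ (h5.trans (map_one φ).symm)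
      rw [h6, map_one] at hz'
      exact hz hz'.symm
    exact (Nat.pow_le_pow_right (by norm_num) hm).trans (h'.two_pow_le_mulAut φ h2 hr2 h4)

end Cfsg.Agent.Omega.Lie.Heis

end
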