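import Cfsg.Agent.OddHalf.Table.AutNorm
import Cfsg.Agent.OddHalf.Table.OutChevTwo
import Cfsg.Agent.Omega.Lie.OutT
import Cfsg.Agent.KFacts.RgdChevCoord
import Cfsg.Agent.FixBN.ChevGood

-- merged: Cfsg.Agent.OddHalf.Table.OutTorus
section

/-!
# `OutSign` for a root group datum of type `F₄` with torus of order three: `2E6(2)`

helper328 (TABLE-17 of S1765).

* `outSign_of_subgroup` : `OutSign` from a subgroup `C` of index at most two of `Aut X` containing the inner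
  automorphisms, all of whose involutions are inner;
* `Nrm.pan_pow` : a normalised automorphism commuting with a transitive torus element `k` acts on the panel as a power
  of `k`;
* `outSign_of_dat` : type `F₄`, torus of order three, long root groups of order two.
-/

set_option autoImplicit false
set_option linter.unusedSectionVars false

namespace Cfsg.Agent.OddHalf.Table.OutTorus

open CoxeterSystem Cfsg.Agent.ChevalleyStructure.CoxeterGeom Cfsg.Agent.Tits.Roots Cfsg.Agent.Tits.Core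
  Cfsg.Agent.Tits.RootComb Cfsg.Agent.Nodes.Comb Cfsg.Agent.Nodes.Reps Cfsg.Agent.Nodes.BNOf Cfsg.Agent.Nodes.BNOf.RGD
  Cfsg.Agent.FixBN Cfsg.Agent.Tits.OfBN Cfsg.Agent.Tits.OppRes Cfsg.Agent.LieExceptional.BNPairCore
  Cfsg.Agent.OddHalf.Table.AutBldg Cfsg.Agent.OddHalf.Table.AutRGD Cfsg.Agent.OddHalf.Table.AutNorm
  Cfsg.Agent.FixBN.TwOfBN

theorem outSign_of_subgroup {X : Type*} [Group X] (C : Subgroup (MulAut X)) (hinn : ∀ x : X, MulAut.conj x ∈ C)
    (hmul : ∀ α β : MulAut X, α ∉ C → β ∉ C → α * β ∈ C)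
    (hC : ∀ α ∈ C, α * α = 1 → ∃ x, α = MulAut.conj x) : OutSign X := by
  classical
  intro α hα hout
  have hmem : ∀ {β γ : MulAut X}, β ∈ C → (β * γ ∈ C ↔ γ ∈ C) := fun hβ => C.mul_mem_cancel_left hβ
  have hmem' : ∀ {β γ : MulAut X}, γ ∈ C → (β * γ ∈ C ↔ β ∈ C) := fun hγ => C.mul_mem_cancel_right hγ
  let f : MulAut X → ℤˣ := fun β => if β ∈ C then 1 else -1
  have f1 : ∀ β, β ∈ C → f β = 1 := fun β hβ => if_pos hβ
  have f2 : ∀ β, β ∉ C → f β = -1 := fun β hβ => if_neg hβ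
  let lam : MulAut X →* ℤˣ := MonoidHom.mk' f (fun β γ => by
    by_cases hβ : β ∈ C
    · rw [f1 β hβ, one_mul]
      by_cases hγ : γ ∈ C
      · rw [f1 γ hγ, f1 _ (mul_mem hβ hγ)]
      · rw [f2 γ hγ, f2 _ (fun h => hγ ((hmem hβ).1 h))]
    · rw [f2 β hβ]
      by_cases hγ : γ ∈ C
      · rw [f1 γ hγ, mul_one, f2 _ (fun h => hβ ((hmem' hγ).1 h))]
      · rw [f2 γ hγ, f1 _ (hmul β γ hβ hγ)]
        decide)
  refine ⟨lam, fun x => f1 _ (hinn x), ?_⟩
  apply f2
  intro h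
  obtain ⟨x, hx⟩ := hC α h hα
  exact hout x hx

variable {I W Y : Type*} [Fintype I] [DecidableEq I] [Group W] [Group Y] {M : CoxeterMatrix I}
  {cs : CoxeterSystem M W} {A : I → I → ℤ} {h : IsCartan M A} {p : ℕ} {T : Subgroup Y} {n : I → Y}
  {X : (I → ℤ) → Subgroup Y} [Finite W]

section

variable {R : RGD cs h p T n X} {hgen : B cs h T X ⊔ NN cs R.nsys = ⊤}
  [hN : (((R.bnPair hgen).B ⊓ (R.bnPair hgen).N).subgroupOf (R.bnPair hgen).N).Normal]
  {cs' : CoxeterSystem M (WP (R.bnPair hgen))}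
  (hcs : ∀ i, cs'.simple i = QuotientGroup.mk
    (⟨(eS R hgen i : Y), (R.bnPair hgen).subset (eS R hgen i).2⟩ : (R.bnPair hgen).N))

omit [Finite W] hN in
theorem simple_conj_T (R : RGD cs h p T n X) (i : I) {s : Y} (hs : s ∈ T) : (n i)⁻¹ * s * n i ∈ T := by
  have h7 := mem_normalizer_iff_cj.1 (R.nsys.norm i)
  have h8 : s ∈ cj (n i) T := by rw [h7]; exact hs
  exact mem_cj.1 h8

theorem δ_x (i : I) {x : Y} (hx : x ∈ X (sr i)) :
    (Bl R hgen cs' hcs).δ (QuotientGroup.mk 1) (QuotientGroup.mk (x * n i)) = cs'.simple i := by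
  rw [bldg_δ_mk, hcs]
  apply wt_of_mem
  rw [inv_one, one_mul]
  exact mul_mem_C_left (X_le_B (isRoot_sr cs h i) (sr_nonneg i) hx) (self_mem_C _)

omit hN in
theorem act_inj {β : MulAut Y} (hβ : Keep (R.bnPair hgen) β) {x y : Y ⧸ (R.bnPair hgen).B}
    (he : act β hβ x = act β hβ y) : x = y := by
  induction x using QuotientGroup.induction_on with
  | _ a =>
  induction y using QuotientGroup.induction_on with
  | _ b =>
  rw [act_mk, act_mk, FixBN.OfBN.mk_eq, ← map_inv, ← map_mul] at he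
  exact FixBN.OfBN.mk_eq.2 ((hβ _).1 he)

omit hN in
theorem x_eq_one {i : I} {x : Y} (hx : x ∈ X (sr i))
    (he : (QuotientGroup.mk (x * n i) : Y ⧸ (R.bnPair hgen).B) = QuotientGroup.mk (n i)) : x = 1 := by
  rw [FixBN.OfBN.mk_eq] at he
  have h1 : (n i)⁻¹ * x⁻¹ * n i ∈ B cs h T X := by
    have e : (x * n i)⁻¹ * n i = (n i)⁻¹ * x⁻¹ * n i := by group
    rw [← e]; exact he
  have h2 : (n i)⁻¹ * x⁻¹ * n i ∈ X (-sr i) := by
    have := R.conj_mem' (rp_simple cs R.nsys i) (isRoot_sr cs h i) (inv_mem hx)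
    rwa [inv_simple, rep_simple_sr] at this
  by_contra hne
  have hne' : (n i)⁻¹ * x⁻¹ * n i ≠ 1 := by
    intro h3
    apply hne
    have e : x = ((n i) * ((n i)⁻¹ * x⁻¹ * n i) * (n i)⁻¹)⁻¹ := by group
    rw [e, h3]; group
  obtain ⟨a, ha, t, ht, b, hb, e⟩ := R.rk1 i _ h2 hne'
  have h3 : n i = (a * t)⁻¹ * ((n i)⁻¹ * x⁻¹ * n i) * b⁻¹ := by rw [e]; group
  have h4 : n i ∈ B cs h T X := by
    rw [h3]
    exact mul_mem (mul_mem (inv_mem (mul_mem (X_le_B (isRoot_sr cs h i) (sr_nonneg i) ha) (T_le_B ht))) h1)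
      (inv_mem (X_le_B (isRoot_sr cs h i) (sr_nonneg i) hb))
  have h5 := R.eq_one_of_mem_B (rp_simple cs R.nsys i) h4
  have h6 := rep_simple_sr cs h i
  rw [h5, map_one, Module.End.one_apply] at h6
  have h7 := congrFun h6 i
  rw [Pi.neg_apply, sr_self] at h7
  exact absurd h7 (by decide)

/-- `s x s⁻¹ n_i B = s x n_i B` -/
theorem mk_conj (i : I) {s : Y} (hs : s ∈ T) (x : Y) :
    (QuotientGroup.mk (s * x * s⁻¹ * n i) : Y ⧸ (R.bnPair hgen).B) = s • QuotientGroup.mk (x * n i) := by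
  rw [FixBN.OfBN.smul_mk, FixBN.OfBN.mk_eq]
  have e : (s * x * s⁻¹ * n i)⁻¹ * (s * (x * n i)) = (n i)⁻¹ * s * n i := by group
  rw [e]
  exact T_le_B (simple_conj_T R i hs)

variable {g₀ : (R.bnPair hgen).N} (hg₀ : (QuotientGroup.mk g₀ : WP (R.bnPair hgen)) = w0 cs')
  [Finite Y] [Fact p.Prime]

include hcs hg₀ in
/-- The value of a normalised automorphism on a chamber of the base panels. -/
theorem Nrm.val {β : MulAut Y} (hβ : Nrm R hgen g₀ β) {i : I} (hσ : sg (eS R hgen) cs' hcs hβ.keep i = i) {x : Y}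
    (hx : x ∈ X (sr i)) (hx1 : x ≠ 1) : ∃ y ∈ X (sr i), y ≠ 1 ∧
      act β hβ.keep (QuotientGroup.mk (x * n i)) = (QuotientGroup.mk (y * n i) : Y ⧸ (R.bnPair hgen).B) := by
  have h2 : (Bl R hgen cs' hcs).δ (QuotientGroup.mk 1) (act β hβ.keep (QuotientGroup.mk (x * n i))) =
      cs'.simple i := by
    have h3 := δ_act (eS R hgen) cs' hcs hβ.keep (QuotientGroup.mk 1) (QuotientGroup.mk (x * n i))
    rw [δ_x hcs i hx, fW_simple' (eS R hgen) cs' hcs hβ.keep, hσ, act_mk, map_one] at h3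
    exact h3
  obtain ⟨y, hy, h3⟩ := pan_eq R hgen cs' hcs i h2
  refine ⟨y, hy, ?_, h3⟩
  rintro rfl
  rw [one_mul] at h3
  have h4 := hβ.act_n hcs hg₀ i
  rw [hσ] at h4
  exact hx1 (x_eq_one hx (act_inj hβ.keep (h3.trans h4.symm)))

include hcs hg₀ in
/-- A normalised automorphism which centralises a torus element `k` transitive on `X (sr i) - 1` acts on the `i`-panel
as a power of `k`. -/
theorem Nrm.pan_pow {β : MulAut Y} (hβ : Nrm R hgen g₀ β) {i : I} (hσ : sg (eS R hgen) cs' hcs hβ.keep i = i)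
    {k : Y} (hk : k ∈ T) (hid : β k = k)
    (htr : ∀ x ∈ X (sr i), ∀ y ∈ X (sr i), x ≠ 1 → y ≠ 1 → ∃ a : ℕ, k ^ a * x * (k ^ a)⁻¹ = y) :
    ∃ a : ℕ, ∀ x ∈ X (sr i), act β hβ.keep (QuotientGroup.mk (x * n i)) =
        (k ^ a) • (QuotientGroup.mk (x * n i) : Y ⧸ (R.bnPair hgen).B) := by
  have hfix : ∀ a : ℕ, act β hβ.keep (QuotientGroup.mk (1 * n i)) =
      (k ^ a) • (QuotientGroup.mk (1 * n i) : Y ⧸ (R.bnPair hgen).B) := by
    intro a
    have h4 := hβ.act_n hcs hg₀ i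
    rw [hσ] at h4
    rw [one_mul, h4, eq_comm, FixBN.OfBN.smul_mk_eq]
    exact T_le_B (simple_conj_T R i (pow_mem hk a))
  by_cases hex : ∃ x ∈ X (sr i), x ≠ 1
  · obtain ⟨x₀, hx₀, hx₀1⟩ := hex
    obtain ⟨y₀, hy₀, hy₀1, he⟩ := Nrm.val hcs hg₀ hβ hσ hx₀ hx₀1
    obtain ⟨a, ha⟩ := htr x₀ hx₀ y₀ hy₀ hx₀1 hy₀1
    refine ⟨a, fun x hx => ?_⟩
    by_cases hx1 : x = 1
    · rw [hx1]; exact hfix a
    · obtain ⟨b, hb⟩ := htr x₀ hx₀ x hx hx₀1 hx1
      have hkb := pow_mem hk b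
      have hka := pow_mem hk a
      rw [← hb, mk_conj i hkb, FixBN.OfBN.smul_mk, act_mk, map_mul, map_pow, hid]
      have h5 : (QuotientGroup.mk (k ^ b * β (x₀ * n i)) : Y ⧸ (R.bnPair hgen).B) =
          (k ^ b) • act β hβ.keep (QuotientGroup.mk (x₀ * n i)) := by
        rw [act_mk, FixBN.OfBN.smul_mk]
      rw [h5, he, ← ha, mk_conj i hka]
      simp only [FixBN.OfBN.smul_mk]
      congr 1
      calc k ^ b * (k ^ a * (x₀ * n i)) = k ^ (b + a) * (x₀ * n i) := by rw [pow_add, mul_assoc]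
        _ = k ^ a * (k ^ b * (x₀ * n i)) := by rw [add_comm, pow_add, mul_assoc]
  · push Not at hex
    refine ⟨0, fun x hx => ?_⟩
    rw [hex x hx]
    exact hfix 0

end

/-- The situation in `2E6(2)`: `X i = X (sr i)`, nodes `0, 1` long, nodes `2, 3` short. -/
structure Dat {Y : Type*} [Group Y] (T : Subgroup Y) (X : Fin 4 → Subgroup Y) (k : Y) : Prop where
  m : k ∈ T
  o : k ^ 3 = 1
  ne : k ≠ 1
  gen : ∀ t ∈ T, ∃ a : ℕ, t = k ^ a
  long : ∀ i : Fin 4, (i = 0 ∨ i = 1) → ∃ r, ∀ x ∈ X i, x = 1 ∨ x = r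
  cen : ∀ i : Fin 4, (i = 0 ∨ i = 1) → ∀ x ∈ X i, k * x = x * k
  tr : ∀ i : Fin 4, (i = 2 ∨ i = 3) → ∀ x ∈ X i, ∀ y ∈ X i, x ≠ 1 → y ≠ 1 → ∃ a : ℕ, k ^ a * x * (k ^ a)⁻¹ = y
  ncen : ∀ i : Fin 4, (i = 2 ∨ i = 3) → ¬ ∀ x ∈ X i, k * x = x * k

section Four

variable {W Y : Type*} [Group W] [Group Y] {cs : CoxeterSystem CoxeterMatrix.F₄ W} {A : Fin 4 → Fin 4 → ℤ}
  {h : IsCartan CoxeterMatrix.F₄ A} {p : ℕ} {T : Subgroup Y} {n : Fin 4 → Y} {X : (Fin 4 → ℤ) → Subgroup Y} [Finite W]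

section

variable {R : RGD cs h p T n X} {hgen : B cs h T X ⊔ NN cs R.nsys = ⊤}
  [hN : (((R.bnPair hgen).B ⊓ (R.bnPair hgen).N).subgroupOf (R.bnPair hgen).N).Normal]
  {cs' : CoxeterSystem CoxeterMatrix.F₄ (WP (R.bnPair hgen))}
  (hcs : ∀ i, cs'.simple i = QuotientGroup.mk
    (⟨(eS R hgen i : Y), (R.bnPair hgen).subset (eS R hgen i).2⟩ : (R.bnPair hgen).N))
  {g₀ : (R.bnPair hgen).N} (hg₀ : (QuotientGroup.mk g₀ : WP (R.bnPair hgen)) = w0 cs')
  [Finite Y] [Fact p.Prime] (hcore : (B cs h T X).normalCore = ⊥) {k : Y} (D : Dat T (fun i => X (sr i)) k)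

include hcs hg₀ hcore D

/-- A normalised automorphism maps `k` to `k` or `k ^ 2`. -/
theorem eq_or {β : MulAut Y} (hβ : Nrm R hgen g₀ β) : β k = k ∨ β k = k ^ 2 := by
  obtain ⟨a, ha⟩ := D.gen _ (hβ.mem_T hcs hcore hg₀ D.m)
  rw [ha, pow_eq_pow_mod a D.o]
  have h3 : a % 3 = 0 ∨ a % 3 = 1 ∨ a % 3 = 2 := by omega
  rcases h3 with h3 | h3 | h3
  · exfalso
    rw [pow_eq_pow_mod a D.o, h3, pow_zero, ← map_one β] at ha
    exact D.ne (β.injective ha)
  · left; rw [h3, pow_one]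
  · right; rw [h3]

/-- The type permutation is trivial. -/
theorem sg_eq {β : MulAut Y} (hβ : Nrm R hgen g₀ β) : ∀ i, sg (eS R hgen) cs' hcs hβ.keep i = i := by
  by_contra hcon
  push Not at hcon
  have h1 := OutChevTwo.diag_F4 _ (sg_M (eS R hgen) cs' hcs hβ.keep) hcon 0
  have h2 := hβ.cen hcs hcore hg₀ D.m (i := 0) (D.cen 0 (Or.inl rfl))
  rw [h1] at h2
  apply D.ncen 3 (Or.inr rfl)
  intro x hx
  have h3 : β k * x = x * β k := h2 x hx
  rcases eq_or hcs hg₀ hcore D hβ with h4 | h4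
  · rw [h4] at h3; exact h3
  · rw [h4] at h3
    have h5 : Commute (k ^ 2) x := h3
    have h6 := (h5.mul_left h5).eq
    have h7 : k ^ 2 * k ^ 2 = k := by
      calc k ^ 2 * k ^ 2 = k ^ 3 * k := by group
        _ = k := by rw [D.o, one_mul]
    rw [h7] at h6
    exact h6

/-- A normalised automorphism centralising `k` has an inner cube. -/
theorem cube {β : MulAut Y} (hβ : Nrm R hgen g₀ β) (hid : β k = k) : β * β * β = 1 := by
  have hσ := sg_eq hcs hg₀ hcore D hβ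
  have hpan : ∀ i : Fin 4, ∃ a : ℕ, ∀ x ∈ X (sr i), act β hβ.keep (QuotientGroup.mk (x * n i)) =
        (k ^ a) • (QuotientGroup.mk (x * n i) : Y ⧸ (R.bnPair hgen).B) := by
    intro i
    have hi : (i = 0 ∨ i = 1) ∨ (i = 2 ∨ i = 3) := by omega
    rcases hi with hi | hi
    · refine Nrm.pan_pow hcs hg₀ hβ (hσ i) D.m hid ?_
      obtain ⟨r, hr⟩ := D.long i hi
      intro x hx y hy hx1 hy1
      refine ⟨0, ?_⟩
      rw [((hr x hx).resolve_left hx1), ((hr y hy).resolve_left hy1)]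
      group
    · exact Nrm.pan_pow hcs hg₀ hβ (hσ i) D.m hid (D.tr i hi)
  have h3 : Nrm R hgen g₀ (β * β * β) := (hβ.mul hβ).mul hβ
  have h4 : β * β * β = MulAut.conj 1 := by
    refine h3.eq_conj hcs hcore hg₀ (sg_eq hcs hg₀ hcore D h3) (one_mem _) ?_
    intro i x hx
    obtain ⟨a, ha⟩ := hpan i
    have ha' := ha x hx
    have hba : β (k ^ a) = k ^ a := by rw [map_pow, hid]
    rw [one_smul]
    rw [act_mk, FixBN.OfBN.smul_mk, FixBN.OfBN.mk_eq] at ha'
    rw [act_mk, FixBN.OfBN.mk_eq]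
    -- `β (x n) B = k^a x n B`
    have e1 : ∀ z : Y, (QuotientGroup.mk z : Y ⧸ (R.bnPair hgen).B) = QuotientGroup.mk (k ^ a * (x * n i)) →
        True := fun _ _ => trivial
    have hs : ∀ z b : Y, z⁻¹ * b ∈ (R.bnPair hgen).B → (β z)⁻¹ * β b ∈ (R.bnPair hgen).B := by
      intro z b hzb
      have := (hβ.keep _).2 hzb
      rwa [map_mul, map_inv] at this
    have q1 := ha'
    have q2 := hs _ _ q1
    rw [map_mul β (k ^ a), hba] at q2
    have q3 := hs _ _ q2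
    rw [map_mul β (k ^ a), hba] at q3
    -- combine: β³(xn) ∈ β²(k^a x n) B = k^a β² (x n) B = k^2a β(xn) B = k^3a x n B
    have p1 : (β (β (x * n i)))⁻¹ * (k ^ a * (k ^ a * (x * n i))) ∈ (R.bnPair hgen).B := by
      have : (β (β (x * n i)))⁻¹ * (k ^ a * (k ^ a * (x * n i))) =
          ((β (β (x * n i)))⁻¹ * (k ^ a * β (x * n i))) * ((β (x * n i))⁻¹ * (k ^ a * (x * n i))) := by group
      rw [this]
      exact mul_mem q2 q1
    have p2 : (β (β (β (x * n i))))⁻¹ * (k ^ a * (k ^ a * (k ^ a * (x * n i)))) ∈ (R.bnPair hgen).B := by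
      have : (β (β (β (x * n i))))⁻¹ * (k ^ a * (k ^ a * (k ^ a * (x * n i)))) =
          ((β (β (β (x * n i))))⁻¹ * (k ^ a * β (β (x * n i)))) *
            ((β (β (x * n i)))⁻¹ * (k ^ a * (k ^ a * (x * n i)))) := by group
      rw [this]
      exact mul_mem q3 p1
    have hk3 : k ^ a * (k ^ a * (k ^ a * (x * n i))) = x * n i := by
      calc k ^ a * (k ^ a * (k ^ a * (x * n i))) = (k ^ a) ^ 3 * (x * n i) := by
            rw [pow_succ, pow_two]; group
        _ = x * n i := by rw [← pow_mul, mul_comm, pow_mul, D.o, one_pow, one_mul]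
    rw [hk3] at p2
    exact p2
  rw [h4, map_one]

end

/-- **`OutSign` for type `F₄`, torus of order three, long root groups of order two.** -/
theorem outSign_of_dat (R : RGD cs h p T n X) (hgen : B cs h T X ⊔ NN cs R.nsys = ⊤) [Finite Y] [Fact p.Prime]
    (hcore : (B cs h T X).normalCore = ⊥) {k : Y} (D : Dat T (fun i => X (sr i)) k) : OutSign Y := by
  obtain ⟨hN, cs', hcs, hW, S⟩ := exists_setup R hgen hcore
  obtain ⟨g₀, hg₀⟩ := exists_g0 R hgen cs'
  let C : Subgroup (MulAut Y) :=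
    { carrier := {α | ∃ g : Y, Nrm R hgen g₀ (MulAut.conj g * α) ∧ (MulAut.conj g * α) k = k}
      mul_mem' := by
        rintro α β ⟨g, hg, hgk⟩ ⟨l, hl, hlk⟩
        refine ⟨g * α l, ?_, ?_⟩
        all_goals
          have e : MulAut.conj (g * α l) * (α * β) = (MulAut.conj g * α) * (MulAut.conj l * β) := by
            apply MulEquiv.ext
            intro x
            show g * α l * α (β x) * (g * α l)⁻¹ = g * α (l * β x * l⁻¹) * g⁻¹
            rw [map_mul, map_mul, map_inv]; group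
          rw [e]
        · exact hg.mul hl
        · show (MulAut.conj g * α) ((MulAut.conj l * β) k) = k
          rw [hlk, hgk]
      one_mem' := by
        refine ⟨1, ?_, ?_⟩
        · rw [map_one, one_mul]
          refine ⟨fun x => Iff.rfl, ?_⟩
          rw [MulAut.one_apply, inv_mul_cancel]
          exact one_mem _
        · rw [map_one, one_mul, MulAut.one_apply]
      inv_mem' := by
        rintro α ⟨g, hg, hgk⟩
        refine ⟨(α⁻¹ g)⁻¹, ?_, ?_⟩
        all_goals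
          have e : MulAut.conj (α⁻¹ g)⁻¹ * α⁻¹ = (MulAut.conj g * α)⁻¹ := by
            apply MulEquiv.ext
            intro x
            rw [mul_inv_rev, ← map_inv MulAut.conj]
            show (α⁻¹ g)⁻¹ * α⁻¹ x * (α⁻¹ g)⁻¹⁻¹ = α⁻¹ (g⁻¹ * x * g⁻¹⁻¹)
            rw [map_mul, map_mul, map_inv, inv_inv, map_inv, map_inv, inv_inv]
          rw [e]
        · exact hg.inv
        · rw [← hgk, MulAut.inv_apply_self, hgk] }
  have memC : ∀ α, α ∈ C ↔ ∃ g : Y, Nrm R hgen g₀ (MulAut.conj g * α) ∧ (MulAut.conj g * α) k = k := fun α => Iff.rfl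
  refine outSign_of_subgroup C ?_ ?_ ?_
  · intro x
    rw [memC]
    refine ⟨x⁻¹, ?_⟩
    rw [← map_mul, inv_mul_cancel, map_one]
    refine ⟨⟨fun x => Iff.rfl, ?_⟩, rfl⟩
    rw [MulAut.one_apply, inv_mul_cancel]
    exact one_mem _
  · intro α β hα hβ
    obtain ⟨g, hg⟩ := exists_nrm hcs hcore hg₀ α
    obtain ⟨l, hl⟩ := exists_nrm hcs hcore hg₀ β
    have h1 : (MulAut.conj g * α) k = k ^ 2 := (eq_or hcs hg₀ hcore D hg).resolve_left fun h' => hα ⟨g, hg, h'⟩
    have h2 : (MulAut.conj l * β) k = k ^ 2 := (eq_or hcs hg₀ hcore D hl).resolve_left fun h' => hβ ⟨l, hl, h'⟩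
    have e : MulAut.conj (g * α l) * (α * β) = (MulAut.conj g * α) * (MulAut.conj l * β) := by
      apply MulEquiv.ext
      intro x
      show g * α l * α (β x) * (g * α l)⁻¹ = g * α (l * β x * l⁻¹) * g⁻¹
      rw [map_mul, map_mul, map_inv]; group
    refine ⟨g * α l, ?_, ?_⟩
    · rw [e]; exact hg.mul hl
    · rw [e]
      show (MulAut.conj g * α) ((MulAut.conj l * β) k) = k
      rw [h2, map_pow, h1]
      calc (k ^ 2) ^ 2 = k ^ 3 * k := by group
        _ = k := by rw [D.o, one_mul]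
  · rintro α ⟨g, hg, hgk⟩ hαα
    have h1 := cube hcs hg₀ hcore D hg hgk
    -- in `Out`: `α³ = 1`, `α² = 1`
    have h2 : ∀ x, α (α x) = x := fun x => DFunLike.congr_fun hαα x
    refine ⟨(g * α g * g)⁻¹, ?_⟩
    apply MulEquiv.ext
    intro x
    have h3 : g * α (g * α (g * α x * g⁻¹) * g⁻¹) * g⁻¹ = x := DFunLike.congr_fun h1 x
    simp only [map_mul, map_inv, h2] at h3
    rw [MulAut.conj_apply, inv_inv]
    conv_rhs => rw [← h3]
    group

end Four

end Cfsg.Agent.OddHalf.Table.OutTorus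

end

-- merged: Cfsg.Agent.Omega.Lie.OutRgd
section

/-!
# `OutNil` for groups with root group data in characteristic two

`R` a root group datum whose torus `T` is abelian of odd order and acts on every group `X (sr i)` transitively and as a
cyclic group.

* `outNil` : `OutNil Y` if all symmetries of the diagram are involutions;
* `outNil_of_centre` : `OutNil Y` if all symmetries of the diagram fix a node `z` such that the action of `T` on
  `X (sr z)` controls the others (type `D₄`).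
-/

set_option autoImplicit false
set_option linter.unusedSectionVars false

namespace Cfsg.Agent.Omega.Lie.OutRgd

open CoxeterSystem Cfsg.Agent.ChevalleyStructure.CoxeterGeom Cfsg.Agent.Tits.Roots Cfsg.Agent.Tits.Core
  Cfsg.Agent.Tits.RootComb Cfsg.Agent.Nodes.Comb Cfsg.Agent.Nodes.Reps Cfsg.Agent.Nodes.BNOf Cfsg.Agent.Nodes.BNOf.RGD
  Cfsg.Agent.FixBN Cfsg.Agent.Tits.OfBN Cfsg.Agent.Tits.OppRes Cfsg.Agent.LieExceptional.BNPairCore
  Cfsg.Agent.OddHalf.Table.AutBldg Cfsg.Agent.OddHalf.Table.AutRGD Cfsg.Agent.OddHalf.Table.AutNorm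
  Cfsg.Agent.OddHalf.Table.OutTorus Cfsg.Agent.Omega.Lie.OutT

/-! ### The torus -/

/-- The hypotheses on the torus, `V i = X (sr i)`. -/
structure Tor {I Y : Type*} [Group Y] (T : Subgroup Y) (V : I → Subgroup Y) : Prop where
  comm : ∀ s ∈ T, ∀ t ∈ T, s * t = t * s
  odd : Odd (Nat.card T)
  nrm : ∀ i, ∀ t ∈ T, ∀ x ∈ V i, t * x * t⁻¹ ∈ V i
  tr : ∀ i, ∀ x ∈ V i, ∀ y ∈ V i, x ≠ 1 → y ≠ 1 → ∃ t ∈ T, t * x * t⁻¹ = y
  cyc : ∀ i, ∃ k ∈ T, ∀ t ∈ T, ∃ a : ℕ, ∀ x ∈ V i, t * x * t⁻¹ = k ^ a * x * (k ^ a)⁻¹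

/-- `s` and `t` act in the same way on `V`. -/
def Eqv {Y : Type*} [Group Y] (V : Subgroup Y) (s t : Y) : Prop := ∀ x ∈ V, (t⁻¹ * s) * x = x * (t⁻¹ * s)

section Eqv

variable {Y : Type*} [Group Y] {V T : Subgroup Y} {s t u v : Y}

theorem Eqv.refl (s : Y) : Eqv V s s := fun x _ => by rw [inv_mul_cancel, one_mul, mul_one]

theorem Eqv.symm (h : Eqv V s t) : Eqv V t s := fun x hx => by
  have h1 := h x hx
  have e : s⁻¹ * t = (t⁻¹ * s)⁻¹ := by group
  rw [e]
  exact ((show Commute (t⁻¹ * s) x from h1).inv_left).eq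

theorem Eqv.trans (h : Eqv V s t) (h' : Eqv V t u) : Eqv V s u := fun x hx => by
  have h1 : Commute (t⁻¹ * s) x := h x hx
  have h2 : Commute (u⁻¹ * t) x := h' x hx
  have e : u⁻¹ * s = (u⁻¹ * t) * (t⁻¹ * s) := by group
  rw [e]
  exact (h2.mul_left h1).eq

theorem Eqv.mul (hc : ∀ a ∈ T, ∀ b ∈ T, a * b = b * a) (hs : s ∈ T) (ht : t ∈ T) (hu : u ∈ T) (hv : v ∈ T)
    (h : Eqv V s t) (h' : Eqv V u v) : Eqv V (s * u) (t * v) := fun x hx => by
  have h1 : Commute (t⁻¹ * s) x := h x hx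
  have h2 : Commute (v⁻¹ * u) x := h' x hx
  have e : (t * v)⁻¹ * (s * u) = (v⁻¹ * u) * (t⁻¹ * s) := by
    have e1 : (t⁻¹ * s) * u = u * (t⁻¹ * s) := hc _ (mul_mem (inv_mem ht) hs) _ hu
    calc (t * v)⁻¹ * (s * u) = v⁻¹ * ((t⁻¹ * s) * u) := by group
      _ = (v⁻¹ * u) * (t⁻¹ * s) := by rw [e1]; group
  rw [e]
  exact (h2.mul_left h1).eq

theorem Eqv.pow (hc : ∀ a ∈ T, ∀ b ∈ T, a * b = b * a) (hs : s ∈ T) (ht : t ∈ T) (h : Eqv V s t) (k : ℕ) :
    Eqv V (s ^ k) (t ^ k) := by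
  induction k with
  | zero => rw [pow_zero, pow_zero]; exact Eqv.refl 1
  | succ k ih =>
    rw [pow_succ, pow_succ]
    exact Eqv.mul hc (pow_mem hs k) (pow_mem ht k) hs ht ih h

theorem eqv_iff : Eqv V s t ↔ ∀ x ∈ V, s * x * s⁻¹ = t * x * t⁻¹ := by
  constructor
  · intro h x hx
    have h1 := h x hx
    calc s * x * s⁻¹ = t * ((t⁻¹ * s) * x) * s⁻¹ := by group
      _ = t * x * t⁻¹ := by rw [h1]; group
  · intro h x hx
    have h1 := h x hx
    calc (t⁻¹ * s) * x = t⁻¹ * (s * x * s⁻¹) * s := by group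
      _ = x * (t⁻¹ * s) := by rw [h1]; group

theorem eqv_one : Eqv V s 1 ↔ ∀ x ∈ V, s * x = x * s := by
  unfold Eqv
  rw [inv_one]
  simp only [one_mul]

end Eqv

variable {I W Y : Type*} [Fintype I] [DecidableEq I] [Group W] [Group Y] {M : CoxeterMatrix I}
  {cs : CoxeterSystem M W} {A : I → I → ℤ} {h : IsCartan M A} {p : ℕ} {T : Subgroup Y} {n : I → Y}
  {X : (I → ℤ) → Subgroup Y} [Finite W]

section

variable {R : RGD cs h p T n X} {hgen : B cs h T X ⊔ NN cs R.nsys = ⊤}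
  [hN : (((R.bnPair hgen).B ⊓ (R.bnPair hgen).N).subgroupOf (R.bnPair hgen).N).Normal]
  {cs' : CoxeterSystem M (WP (R.bnPair hgen))}
  (hcs : ∀ i, cs'.simple i = QuotientGroup.mk
    (⟨(eS R hgen i : Y), (R.bnPair hgen).subset (eS R hgen i).2⟩ : (R.bnPair hgen).N))
  {g₀ : (R.bnPair hgen).N} (hg₀ : (QuotientGroup.mk g₀ : WP (R.bnPair hgen)) = w0 cs')
  [Finite Y] [Fact p.Prime] (hcore : (B cs h T X).normalCore = ⊥) (D : Tor T (fun i => X (sr i)))

/-! ### Normalised automorphisms -/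

include hcs hg₀ hcore in
theorem Nrm.eqv {β : MulAut Y} (hβ : Nrm R hgen g₀ β) {i : I} {s t : Y} (hs : s ∈ T) (ht : t ∈ T)
    (h1 : Eqv (X (sr i)) s t) :
    Eqv (X (sr (sg (eS R hgen) cs' hcs hβ.keep i))) (β s) (β t) := by
  intro x hx
  rw [← map_inv, ← map_mul]
  exact hβ.cen hcs hcore hg₀ (mul_mem (inv_mem ht) hs) h1 x hx

include hcs hg₀ hcore in
/-- An element of `T` which centralises all `X (sr i)` is trivial. -/
theorem eq_one_of_cen {t : Y} (ht : t ∈ T) (hc : ∀ i, ∀ x ∈ X (sr i), t * x = x * t) : t = 1 := by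
  have hI : Finite I := inferInstance
  have hW : Finite (WP (R.bnPair hgen)) := inferInstance
  have hC : Cox cs' := inferInstance
  have hB : t ∈ (R.bnPair hgen).B := T_le_B ht
  have hk : Keep (R.bnPair hgen) (MulAut.conj t) := Keep.conj hB
  have hβ : Nrm R hgen g₀ (MulAut.conj t) := by
    refine ⟨hk, ?_⟩
    rw [MulAut.conj_apply]
    have h1 := ((mem_T_iff hcs hcore hg₀).1 ht).2
    have e : (g₀ : Y)⁻¹ * (t * g₀ * t⁻¹) = ((g₀ : Y)⁻¹ * t * g₀) * t⁻¹ := by group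
    rw [e]
    exact mul_mem h1 (inv_mem hB)
  have h1 : MulAut.conj t = MulAut.conj 1 := by
    refine hβ.eq_conj hcs hcore hg₀ (fun i => ?_) (one_mem T) ?_
    · exact sg_conj (eS R hgen) cs' hcs hB i
    · intro i x hx
      rw [one_smul, act_mk, MulAut.conj_apply]
      have h2 : t * (x * n i) * t⁻¹ = x * (t * n i * t⁻¹) := by
        calc t * (x * n i) * t⁻¹ = (t * x) * n i * t⁻¹ := by group
          _ = x * (t * n i * t⁻¹) := by rw [hc i x hx]; group
      rw [h2, FixBN.OfBN.mk_eq]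
      have h3 := simple_conj_T R i ht
      have e : (x * (t * n i * t⁻¹))⁻¹ * (x * n i) = t * ((n i)⁻¹ * t * n i)⁻¹ := by group
      rw [e]
      exact mul_mem hB (inv_mem (T_le_B h3))
  have h2 : ∀ y : Y, t * y * t⁻¹ = y := fun y => by
    have := DFunLike.congr_fun h1 y
    rw [MulAut.conj_apply, MulAut.conj_apply] at this
    simpa using this
  have h3 : t ∈ (B cs h T X).normalCore := by
    intro g
    have h4 : g * t * g⁻¹ = t := by
      have := h2 g
      calc g * t * g⁻¹ = (t * g * t⁻¹)⁻¹⁻¹ * t * g⁻¹ * 1 := by rw [this]; group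
        _ = t := by
          have h5 : g * t = t * g := by
            calc g * t = (t * g * t⁻¹) * t := by rw [this]
              _ = t * g := by group
          rw [inv_inv, this, h5]; group
    rw [h4]; exact hB
  rw [hcore] at h3
  exact Subgroup.mem_bot.1 h3

include D in
/-- A type preserving normalised automorphism acts on `T` modulo `C_T(X (sr i))` as a power map. -/
theorem exists_pow {β : MulAut Y} (hβ : Nrm R hgen g₀ β) {i : I}
    (hσ : sg (eS R hgen) cs' hcs hβ.keep i = i) (hcore : (B cs h T X).normalCore = ⊥)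
    (hg₀ : (QuotientGroup.mk g₀ : WP (R.bnPair hgen)) = w0 cs') :
    ∃ b : ℕ, ∀ s ∈ T, Eqv (X (sr i)) (β s) (s ^ b) := by
  obtain ⟨k, hk, hcy⟩ := D.cyc i
  have hmem : ∀ t ∈ T, β t ∈ T := fun t ht => hβ.mem_T hcs hcore hg₀ ht
  obtain ⟨b, hb⟩ := hcy (β k) (hmem k hk)
  have hb' : Eqv (X (sr i)) (β k) (k ^ b) := eqv_iff.2 hb
  refine ⟨b, fun s hs => ?_⟩
  obtain ⟨a, ha⟩ := hcy s hs
  have ha' : Eqv (X (sr i)) s (k ^ a) := eqv_iff.2 ha
  have h1 := Nrm.eqv hcs hg₀ hcore hβ hs (pow_mem hk a) ha'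
  rw [hσ, map_pow] at h1
  have h2 := Eqv.pow D.comm (hmem k hk) (pow_mem hk b) hb' a
  have h3 := Eqv.pow D.comm hs (pow_mem hk a) ha' b
  rw [← pow_mul, mul_comm, pow_mul] at h2
  exact (h1.trans h2).trans h3.symm

include hcs hg₀ hcore D in
/-- **Commutators** act trivially on `T / C_T(X (sr i))` if both factors fix the type `i`. -/
theorem eqv_comm {β γ : MulAut Y} (hβ : Nrm R hgen g₀ β) (hγ : Nrm R hgen g₀ γ) {i : I}
    (hσ : sg (eS R hgen) cs' hcs hβ.keep i = i) (hτ : sg (eS R hgen) cs' hcs hγ.keep i = i) {s : Y} (hs : s ∈ T) :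
    Eqv (X (sr i)) ((β⁻¹ * (γ * β * γ⁻¹)) s) s := by
  have hI : Finite I := inferInstance
  have hW : Finite (WP (R.bnPair hgen)) := inferInstance
  have hC : Cox cs' := inferInstance
  obtain ⟨b, hb⟩ := exists_pow hcs D hβ hσ hcore hg₀
  obtain ⟨c, hc⟩ := exists_pow hcs D hγ hτ hcore hg₀
  have mβ : ∀ t ∈ T, β t ∈ T := fun t ht => hβ.mem_T hcs hcore hg₀ ht
  have mγ : ∀ t ∈ T, γ t ∈ T := fun t ht => hγ.mem_T hcs hcore hg₀ ht
  have mβ' : ∀ t ∈ T, β⁻¹ t ∈ T := fun t ht => hβ.inv.mem_T hcs hcore hg₀ ht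
  have mγ' : ∀ t ∈ T, γ⁻¹ t ∈ T := fun t ht => hγ.inv.mem_T hcs hcore hg₀ ht
  have hσ' : sg (eS R hgen) cs' hcs hβ.inv.keep i = i := by
    have h1 := sg_mul (eS R hgen) cs' hcs hβ.inv.keep hβ.keep i
    rw [hσ] at h1
    rw [← h1]
    exact (sg_congr (eS R hgen) cs' hcs _ Keep.one (inv_mul_cancel β) i).trans (sg_one (eS R hgen) cs' hcs i)
  set u := γ⁻¹ s with hu
  have huT : u ∈ T := mγ' s hs
  -- `γ β u ≡ β γ u`
  have h1 : Eqv (X (sr i)) (γ (β u)) (β (γ u)) := by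
    have e1 := Nrm.eqv hcs hg₀ hcore hγ (mβ u huT) (pow_mem huT b) (hb u huT)
    have e2 := Nrm.eqv hcs hg₀ hcore hβ (mγ u huT) (pow_mem huT c) (hc u huT)
    rw [hτ, map_pow] at e1
    rw [hσ, map_pow] at e2
    have e3 := Eqv.pow D.comm (mγ u huT) (pow_mem huT c) (hc u huT) b
    have e4 := Eqv.pow D.comm (mβ u huT) (pow_mem huT b) (hb u huT) c
    rw [← pow_mul, mul_comm, pow_mul] at e3
    exact (e1.trans e3).trans (e2.trans e4).symm
  have h2 := Nrm.eqv hcs hg₀ hcore hβ.inv (mγ _ (mβ u huT)) (mβ _ (mγ u huT)) h1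
  rw [hσ'] at h2
  have e5 : β⁻¹ (β (γ u)) = s := by
    rw [MulAut.inv_apply_self, hu, MulAut.apply_inv_self]
  rw [e5] at h2
  exact h2

include hcs hg₀ hcore D in
/-- A type preserving normalised automorphism which is trivial on `T` has order dividing `|T|`. -/
theorem pow_card {β : MulAut Y} (hβ : Nrm R hgen g₀ β) (hσ : ∀ i, sg (eS R hgen) cs' hcs hβ.keep i = i)
    (hT : ∀ t ∈ T, β t = t) : β ^ Nat.card T = 1 := by
  have hI : Finite I := inferInstance
  have hW : Finite (WP (R.bnPair hgen)) := inferInstance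
  have hC : Cox cs' := inferInstance
  -- the action on the panels
  have hpan : ∀ i : I, ∃ t ∈ T, ∀ x ∈ X (sr i), act β hβ.keep (QuotientGroup.mk (x * n i)) =
        t • (QuotientGroup.mk (x * n i) : Y ⧸ (R.bnPair hgen).B) := by
    intro i
    have hfix : ∀ t ∈ T, act β hβ.keep (QuotientGroup.mk (1 * n i)) =
        t • (QuotientGroup.mk (1 * n i) : Y ⧸ (R.bnPair hgen).B) := by
      intro t ht
      have h4 := hβ.act_n hcs hg₀ i
      rw [hσ] at h4
      rw [one_mul, h4, eq_comm, FixBN.OfBN.smul_mk_eq]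
      exact T_le_B (simple_conj_T R i ht)
    by_cases hex : ∃ x ∈ X (sr i), x ≠ 1
    · obtain ⟨x₀, hx₀, hx₀1⟩ := hex
      obtain ⟨y₀, hy₀, hy₀1, he⟩ := Nrm.val hcs hg₀ hβ (hσ i) hx₀ hx₀1
      obtain ⟨t, ht, hty⟩ := D.tr i x₀ hx₀ y₀ hy₀ hx₀1 hy₀1
      refine ⟨t, ht, fun x hx => ?_⟩
      by_cases hx1 : x = 1
      · rw [hx1]; exact hfix t ht
      · obtain ⟨s, hs, hsx⟩ := D.tr i x₀ hx₀ x hx hx₀1 hx1
        rw [← hsx, mk_conj i hs, FixBN.OfBN.smul_mk, act_mk, map_mul, hT s hs]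
        have h5 : (QuotientGroup.mk (s * β (x₀ * n i)) : Y ⧸ (R.bnPair hgen).B) =
            s • act β hβ.keep (QuotientGroup.mk (x₀ * n i)) := by
          rw [act_mk, FixBN.OfBN.smul_mk]
        rw [h5, he, ← hty, mk_conj i ht]
        simp only [FixBN.OfBN.smul_mk]
        congr 1
        rw [← mul_assoc, D.comm s hs t ht, mul_assoc]
    · push Not at hex
      refine ⟨1, one_mem _, fun x hx => ?_⟩
      rw [hex x hx]
      exact hfix 1 (one_mem _)
  -- powers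
  have hpow : ∀ m : ℕ, Nrm R hgen g₀ (β ^ m) := by
    intro m
    induction m with
    | zero =>
      rw [pow_zero]
      refine ⟨Keep.one, ?_⟩
      rw [MulAut.one_apply, inv_mul_cancel]
      exact one_mem _
    | succ m ih => rw [pow_succ]; exact ih.mul hβ
  have hsg : ∀ m : ℕ, ∀ i, sg (eS R hgen) cs' hcs (hpow m).keep i = i := by
    intro m
    induction m with
    | zero => exact fun i => (sg_congr (eS R hgen) cs' hcs _ Keep.one (pow_zero β) i).trans (sg_one (eS R hgen) cs' hcs i)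
    | succ m ih =>
      intro i
      refine (sg_congr (eS R hgen) cs' hcs (hpow (m + 1)).keep ((hpow m).keep.mul hβ.keep) (pow_succ β m) i).trans ?_
      refine (sg_mul (eS R hgen) cs' hcs (hpow m).keep hβ.keep i).trans ?_
      rw [hσ, ih]
  have hact : ∀ i : I, ∀ t ∈ T, (∀ x ∈ X (sr i), act β hβ.keep (QuotientGroup.mk (x * n i)) =
        t • (QuotientGroup.mk (x * n i) : Y ⧸ (R.bnPair hgen).B)) → ∀ m : ℕ, ∀ x ∈ X (sr i),
      act (β ^ m) (hpow m).keep (QuotientGroup.mk (x * n i)) =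
        (t ^ m) • (QuotientGroup.mk (x * n i) : Y ⧸ (R.bnPair hgen).B) := by
    intro i t ht h1 m
    induction m with
    | zero => intro x _; rw [act_mk, pow_zero, pow_zero, one_smul, MulAut.one_apply]
    | succ m ih =>
      intro x hx
      have h2 : act (β ^ (m + 1)) (hpow (m + 1)).keep (QuotientGroup.mk (x * n i)) =
          act β hβ.keep (act (β ^ m) (hpow m).keep (QuotientGroup.mk (x * n i))) := by
        rw [act_mk, act_mk, act_mk, pow_succ', MulAut.mul_apply]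
      rw [h2, ih x hx, FixBN.OfBN.smul_mk, act_mk, map_mul, map_pow, hT t ht]
      have h5 : (QuotientGroup.mk (t ^ m * β (x * n i)) : Y ⧸ (R.bnPair hgen).B) =
          t ^ m • act β hβ.keep (QuotientGroup.mk (x * n i)) := by
        rw [act_mk, FixBN.OfBN.smul_mk]
      rw [h5, h1 x hx, smul_smul, pow_succ]
  have h4 : β ^ Nat.card T = MulAut.conj 1 := by
    refine (hpow _).eq_conj hcs hcore hg₀ (hsg _) (one_mem _) ?_
    intro i x hx
    obtain ⟨t, ht, h1⟩ := hpan i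
    rw [hact i t ht h1 _ x hx]
    have h2 : t ^ Nat.card T = 1 := by
      have h3 : (⟨t, ht⟩ : T) ^ Nat.card T = 1 := pow_card_eq_one'
      exact congrArg Subtype.val h3
    rw [h2]
  rw [h4, map_one]

/-! ### The type of an automorphism -/

theorem sg_inv {θ : MulAut Y} (hθ : Keep (R.bnPair hgen) θ) (i : I) :
    sg (eS R hgen) cs' hcs hθ (sg (eS R hgen) cs' hcs hθ.inv i) = i := by
  have hI : Finite I := inferInstance
  have hW : Finite (WP (R.bnPair hgen)) := inferInstance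
  have hC : Cox cs' := inferInstance
  refine (sg_mul (eS R hgen) cs' hcs hθ hθ.inv i).symm.trans ?_
  exact (sg_congr (eS R hgen) cs' hcs _ Keep.one (mul_inv_cancel _) i).trans (sg_one (eS R hgen) cs' hcs i)

/-- the type of a commutator -/
theorem sg_comm {β γ : MulAut Y} (hβ : Keep (R.bnPair hgen) β) (hγ : Keep (R.bnPair hgen) γ)
    (h1 : ∀ i, sg (eS R hgen) cs' hcs hβ i = i) (hδ : Keep (R.bnPair hgen) (β⁻¹ * (γ * β * γ⁻¹))) (i : I) :
    sg (eS R hgen) cs' hcs hδ i = i := by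
  have hI : Finite I := inferInstance
  have hW : Finite (WP (R.bnPair hgen)) := inferInstance
  have hC : Cox cs' := inferInstance
  refine (sg_mul (eS R hgen) cs' hcs hβ.inv ((hγ.mul hβ).mul hγ.inv) i).trans ?_
  rw [sg_mul (eS R hgen) cs' hcs (hγ.mul hβ) hγ.inv i, sg_mul (eS R hgen) cs' hcs hγ hβ, h1,
    sg_inv hcs hγ]
  have h3 := sg_inv hcs hβ i
  rw [h1] at h3
  exact h3

omit hN in
theorem mem_B_of_keep {q : ℕ} [Fact q.Prime] {U : Subgroup Y} (S : Split (R.bnPair hgen) q U) {b : Y}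
    (hb : Keep (R.bnPair hgen) (MulAut.conj b)) : b ∈ (R.bnPair hgen).B := by
  rw [← S.normalizer_eq]
  have key : ∀ b : Y, Keep (R.bnPair hgen) (MulAut.conj b) → ∀ u ∈ U, b * u * b⁻¹ ∈ U := by
    intro b hb u hu
    have h1 : b * u * b⁻¹ ∈ (R.bnPair hgen).B := by
      have := (hb u).2 (S.le hu)
      rwa [MulAut.conj_apply] at this
    obtain ⟨m, hm⟩ := S.isP ⟨u, hu⟩
    have hm' : u ^ q ^ m = 1 := congrArg Subtype.val hm
    refine S.mem_of_pow h1 (n := m) ?_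
    rw [conj_pow, hm']; group
  rw [Subgroup.mem_normalizer_iff]
  intro u
  refine ⟨key b hb u, fun hu => ?_⟩
  have hb' : Keep (R.bnPair hgen) (MulAut.conj b⁻¹) := by rw [map_inv]; exact hb.inv
  have := key b⁻¹ hb' _ hu
  have e : b⁻¹ * (b * u * b⁻¹) * b⁻¹⁻¹ = u := by group
  rwa [e] at this

variable (g₀) in
/-- `α` is of type `σ`. -/
def Typ (α : MulAut Y) (σ : I → I) : Prop :=
  ∃ (g : Y) (hg : Nrm R hgen g₀ (MulAut.conj g * α)), ∀ i, sg (eS R hgen) cs' hcs hg.keep i = σ i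

theorem conj_mul_mul (α β : MulAut Y) (g l : Y) :
    MulAut.conj (g * α l) * (α * β) = (MulAut.conj g * α) * (MulAut.conj l * β) := by
  apply MulEquiv.ext
  intro x
  show g * α l * α (β x) * (g * α l)⁻¹ = g * α (l * β x * l⁻¹) * g⁻¹
  rw [map_mul, map_mul, map_inv]; group

include hg₀ hcore in
theorem exists_typ (α : MulAut Y) : ∃ σ, Typ hcs g₀ α σ := by
  obtain ⟨g, hg⟩ := exists_nrm hcs hcore hg₀ α
  exact ⟨_, g, hg, fun _ => rfl⟩

theorem Typ.mul {α β : MulAut Y} {σ τ : I → I} (hα : Typ hcs g₀ α σ) (hβ : Typ hcs g₀ β τ) :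
    Typ hcs g₀ (α * β) (σ ∘ τ) := by
  have hI : Finite I := inferInstance
  have hW : Finite (WP (R.bnPair hgen)) := inferInstance
  have hC : Cox cs' := inferInstance
  obtain ⟨g, hg, h1⟩ := hα
  obtain ⟨l, hl, h2⟩ := hβ
  have e := conj_mul_mul α β g l
  refine ⟨g * α l, by rw [e]; exact hg.mul hl, fun i => ?_⟩
  refine (sg_congr (eS R hgen) cs' hcs _ (hg.keep.mul hl.keep) e i).trans ?_
  refine (sg_mul (eS R hgen) cs' hcs hg.keep hl.keep i).trans ?_
  rw [h2, h1]; rfl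

theorem Typ.one : Typ hcs g₀ (1 : MulAut Y) (id : I → I) := by
  have hI : Finite I := inferInstance
  have hW : Finite (WP (R.bnPair hgen)) := inferInstance
  have hC : Cox cs' := inferInstance
  have e : MulAut.conj (1 : Y) * 1 = 1 := by rw [map_one, one_mul]
  have h1 : Nrm R hgen g₀ (MulAut.conj (1 : Y) * 1) := by
    rw [e]
    refine ⟨Keep.one, ?_⟩
    rw [MulAut.one_apply, inv_mul_cancel]
    exact one_mem _
  exact ⟨1, h1, fun i => (sg_congr (eS R hgen) cs' hcs _ Keep.one e i).trans (sg_one (eS R hgen) cs' hcs i)⟩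

include hcore in
theorem Typ.unique {α : MulAut Y} {σ τ : I → I} (hα : Typ hcs g₀ α σ) (hβ : Typ hcs g₀ α τ) : σ = τ := by
  have hI : Finite I := inferInstance
  have hW : Finite (WP (R.bnPair hgen)) := inferInstance
  have hC : Cox cs' := inferInstance
  have S : Split (R.bnPair hgen) p (Sup X (Pos cs h)) := SplitRGD.split_of_rgd (Fact.out) R hgen hcore
  obtain ⟨g, hg, h1⟩ := hα
  obtain ⟨l, hl, h2⟩ := hβ
  have e : (MulAut.conj l * α) * (MulAut.conj g * α)⁻¹ = MulAut.conj (l * g⁻¹) := by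
    rw [map_mul, map_inv]; group
  have hk : Keep (R.bnPair hgen) (MulAut.conj (l * g⁻¹)) := by rw [← e]; exact hl.keep.mul hg.keep.inv
  have hb := mem_B_of_keep S hk
  have e2 : MulAut.conj (l * g⁻¹) * (MulAut.conj g * α) = MulAut.conj l * α := by
    rw [map_mul, map_inv]; group
  funext i
  rw [← h1, ← h2]
  refine Eq.trans ?_ (sg_congr (eS R hgen) cs' hcs ((Keep.conj hb).mul hg.keep) hl.keep e2 i)
  refine Eq.trans ?_ (sg_mul (eS R hgen) cs' hcs (Keep.conj hb) hg.keep i).symm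
  exact (sg_conj (eS R hgen) cs' hcs hb _).symm

theorem Typ.inj {α : MulAut Y} {σ : I → I} (hα : Typ hcs g₀ α σ) : Function.Injective σ := by
  have hI : Finite I := inferInstance
  have hW : Finite (WP (R.bnPair hgen)) := inferInstance
  have hC : Cox cs' := inferInstance
  obtain ⟨g, hg, h1⟩ := hα
  have : σ = sg (eS R hgen) cs' hcs hg.keep := funext fun i => (h1 i).symm
  rw [this]
  exact sg_injective _ _ _ _

theorem Typ.matrix {α : MulAut Y} {σ : I → I} (hα : Typ hcs g₀ α σ) (i j : I) : M (σ i) (σ j) = M i j := by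
  have hI : Finite I := inferInstance
  have hW : Finite (WP (R.bnPair hgen)) := inferInstance
  have hC : Cox cs' := inferInstance
  obtain ⟨g, hg, h1⟩ := hα
  rw [← h1, ← h1]
  exact sg_M _ _ _ _ i j

variable (g₀) in
include hg₀ hcore in
/-- The type preserving automorphisms. -/
theorem exists_TP : ∃ N : Subgroup (MulAut Y), N.Normal ∧ ∀ α, α ∈ N ↔ Typ hcs g₀ α id := by
  have hinv : ∀ α : MulAut Y, ∀ σ τ, Typ hcs g₀ α σ → Typ hcs g₀ α⁻¹ τ → σ ∘ τ = id ∧ τ ∘ σ = id := by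
    intro α σ τ h1 h2
    have h3 := h1.mul hcs h2
    have h4 := h2.mul hcs h1
    rw [mul_inv_cancel] at h3
    rw [inv_mul_cancel] at h4
    exact ⟨h3.unique hcs hcore (Typ.one hcs), h4.unique hcs hcore (Typ.one hcs)⟩
  let N : Subgroup (MulAut Y) :=
    { carrier := {α | Typ hcs g₀ α id}
      mul_mem' := fun {α β} h1 h2 => by
        have := Typ.mul hcs h1 h2
        simpa using this
      one_mem' := Typ.one hcs
      inv_mem' := fun {α} h1 => by
        obtain ⟨τ, hτ⟩ := exists_typ hcs hg₀ hcore α⁻¹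
        have h2 := (hinv α _ _ h1 hτ).1
        have : τ = id := by simpa using h2
        rw [this] at hτ
        exact hτ }
  refine ⟨N, ⟨fun α hα β => ?_⟩, fun α => Iff.rfl⟩
  obtain ⟨σ, hσ⟩ := exists_typ hcs hg₀ hcore β
  obtain ⟨τ, hτ⟩ := exists_typ hcs hg₀ hcore β⁻¹
  have h1 := (hσ.mul hcs (show Typ hcs g₀ α id from hα)).mul hcs hτ
  have h2 : (σ ∘ id) ∘ τ = id := (hinv β _ _ hσ hτ).1
  rw [h2] at h1
  exact h1

/-! ### Automorphisms trivial on `T` -/

variable (g₀) in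
/-- The type preserving automorphisms which are trivial on `T` (modulo inner automorphisms). -/
def DD : Subgroup (MulAut Y) where
  carrier := {α | ∃ (g : Y) (hg : Nrm R hgen g₀ (MulAut.conj g * α)),
    (∀ i, sg (eS R hgen) cs' hcs hg.keep i = i) ∧ ∀ t ∈ T, (MulAut.conj g * α) t = t}
  mul_mem' := by
    have hI : Finite I := inferInstance
    have hW : Finite (WP (R.bnPair hgen)) := inferInstance
    have hC : Cox cs' := inferInstance
    rintro α β ⟨g, hg, h1, h2⟩ ⟨l, hl, h3, h4⟩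
    have e := conj_mul_mul α β g l
    refine ⟨g * α l, by rw [e]; exact hg.mul hl, fun i => ?_, fun t ht => ?_⟩
    · refine (sg_congr (eS R hgen) cs' hcs _ (hg.keep.mul hl.keep) e i).trans ?_
      refine (sg_mul (eS R hgen) cs' hcs hg.keep hl.keep i).trans ?_
      rw [h3, h1]
    · rw [e]
      show (MulAut.conj g * α) ((MulAut.conj l * β) t) = t
      rw [h4 t ht, h2 t ht]
  one_mem' := by
    have hI : Finite I := inferInstance
    have hW : Finite (WP (R.bnPair hgen)) := inferInstance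
    have hC : Cox cs' := inferInstance
    have e : MulAut.conj (1 : Y) * 1 = 1 := by rw [map_one, one_mul]
    have h1 : Nrm R hgen g₀ (MulAut.conj (1 : Y) * 1) := by
      rw [e]
      refine ⟨Keep.one, ?_⟩
      rw [MulAut.one_apply, inv_mul_cancel]
      exact one_mem _
    exact ⟨1, h1, fun i => (sg_congr (eS R hgen) cs' hcs _ Keep.one e i).trans (sg_one (eS R hgen) cs' hcs i),
      fun t _ => by rw [e]; rfl⟩
  inv_mem' := by
    have hI : Finite I := inferInstance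
    have hW : Finite (WP (R.bnPair hgen)) := inferInstance
    have hC : Cox cs' := inferInstance
    rintro α ⟨g, hg, h1, h2⟩
    have e : MulAut.conj (α⁻¹ g⁻¹) * α⁻¹ = (MulAut.conj g * α)⁻¹ := by
      apply MulEquiv.ext
      intro x
      have h3 : (MulAut.conj g * α)⁻¹ x = α⁻¹ (g⁻¹ * x * g) := by
        rw [mul_inv_rev, MulAut.mul_apply, ← map_inv, MulAut.conj_apply, inv_inv]
      rw [h3]
      show α⁻¹ g⁻¹ * α⁻¹ x * (α⁻¹ g⁻¹)⁻¹ = _
      rw [← map_inv, ← map_mul, ← map_mul, inv_inv]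
    refine ⟨α⁻¹ g⁻¹, by rw [e]; exact hg.inv, fun i => ?_, fun t ht => ?_⟩
    · refine (sg_congr (eS R hgen) cs' hcs _ hg.keep.inv e i).trans ?_
      have h3 := sg_mul (eS R hgen) cs' hcs hg.keep.inv hg.keep i
      rw [h1] at h3
      rw [← h3]
      exact (sg_congr (eS R hgen) cs' hcs _ Keep.one (inv_mul_cancel _) i).trans (sg_one (eS R hgen) cs' hcs i)
    · rw [e]
      conv_lhs => rw [← h2 t ht]
      rw [MulAut.inv_apply_self]

include hg₀ hcore D in
theorem pow_mem_inner {α : MulAut Y} (hα : α ∈ DD hcs g₀) :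
    α ^ Nat.card T ∈ (MulAut.conj : Y →* MulAut Y).range := by
  obtain ⟨g, hg, h1, h2⟩ := hα
  have h3 := pow_card hcs hg₀ hcore D hg h1 h2
  have hn : ((MulAut.conj : Y →* MulAut Y).range).Normal := ⟨by
    rintro _ ⟨x, rfl⟩ β
    refine ⟨β x, ?_⟩
    apply MulEquiv.ext
    intro y
    show β x * y * (β x)⁻¹ = β (x * β⁻¹ y * x⁻¹)
    rw [map_mul, map_mul, map_inv, MulAut.apply_inv_self]⟩
  let q := QuotientGroup.mk' ((MulAut.conj : Y →* MulAut Y).range)
  have h4 : q (MulAut.conj g * α) = q α := by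
    have h6 : q (MulAut.conj g) = 1 :=
      (QuotientGroup.eq_one_iff (N := (MulAut.conj : Y →* MulAut Y).range) (MulAut.conj g)).2 ⟨g, rfl⟩
    rw [map_mul, h6, one_mul]
  have h5 : q (α ^ Nat.card T) = 1 := by
    rw [map_pow, ← h4, ← map_pow, h3, map_one]
  exact (QuotientGroup.eq_one_iff _).1 h5

include hg₀ hcore in
/-- The commutator of two normalised automorphisms. -/
theorem comm_mem_DD {x t : MulAut Y} {g l : Y} (hg : Nrm R hgen g₀ (MulAut.conj g * x))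
    (hl : Nrm R hgen g₀ (MulAut.conj l * t)) (h1 : ∀ i, sg (eS R hgen) cs' hcs hg.keep i = i)
    (h2 : ∀ i, ∀ s ∈ T, Eqv (X (sr i))
      (((MulAut.conj g * x)⁻¹ * ((MulAut.conj l * t) * (MulAut.conj g * x) * (MulAut.conj l * t)⁻¹)) s) s) :
    x⁻¹ * (t * x * t⁻¹) ∈ DD hcs g₀ := by
  have hI : Finite I := inferInstance
  have hW : Finite (WP (R.bnPair hgen)) := inferInstance
  have hC : Cox cs' := inferInstance
  set β := MulAut.conj g * x with hβ
  set γ := MulAut.conj l * t with hγ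
  have hδ : Nrm R hgen g₀ (β⁻¹ * (γ * β * γ⁻¹)) := hg.inv.mul ((hl.mul hg).mul hl.inv)
  -- the inner factor
  obtain ⟨r, hr⟩ : ∃ r : Y, MulAut.conj r * (x⁻¹ * (t * x * t⁻¹)) = β⁻¹ * (γ * β * γ⁻¹) := by
    have key : ∀ a b : MulAut Y, (∃ r : Y, MulAut.conj r * a = b) → ∀ c d : MulAut Y, (∃ r : Y, MulAut.conj r * c = d) →
        ∃ r : Y, MulAut.conj r * (a * c) = b * d := by
      rintro a b ⟨r, rfl⟩ c d ⟨u, rfl⟩
      exact ⟨r * a u, conj_mul_mul a c r u⟩
    have kinv : ∀ a b : MulAut Y, (∃ r : Y, MulAut.conj r * a = b) → ∃ r : Y, MulAut.conj r * a⁻¹ = b⁻¹ := by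
      rintro a b ⟨r, rfl⟩
      refine ⟨a⁻¹ r⁻¹, ?_⟩
      apply MulEquiv.ext
      intro y
      have h3 : (MulAut.conj r * a)⁻¹ y = a⁻¹ (r⁻¹ * y * r) := by
        rw [mul_inv_rev, MulAut.mul_apply, ← map_inv, MulAut.conj_apply, inv_inv]
      rw [h3]
      show a⁻¹ r⁻¹ * a⁻¹ y * (a⁻¹ r⁻¹)⁻¹ = _
      rw [← map_inv, ← map_mul, ← map_mul, inv_inv]
    exact key _ _ (kinv _ _ ⟨g, rfl⟩) _ _ (key _ _ (key _ _ ⟨l, rfl⟩ _ _ ⟨g, rfl⟩) _ _ (kinv _ _ ⟨l, rfl⟩))
  refine ⟨r, by rw [hr]; exact hδ, fun i => ?_, fun s hs => ?_⟩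
  · -- the type
    refine (sg_congr (eS R hgen) cs' hcs _ hδ.keep hr i).trans ?_
    exact sg_comm hcs hg.keep hl.keep h1 hδ.keep i
  · rw [hr]
    have h3 : s⁻¹ * (β⁻¹ * (γ * β * γ⁻¹)) s = 1 := by
      refine eq_one_of_cen hcs hg₀ hcore (mul_mem (inv_mem hs) (hδ.mem_T hcs hcore hg₀ hs)) fun i x hx => ?_
      exact h2 i s hs x hx
    exact (inv_mul_eq_one.1 h3).symm

end

/-! ### The theorems -/

section

variable [Finite Y] [Fact p.Prime]

/-- **`OutNil`**, all diagram symmetries are involutions. -/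
theorem outNil (R : RGD cs h p T n X) (hgen : B cs h T X ⊔ NN cs R.nsys = ⊤) (hcore : (B cs h T X).normalCore = ⊥)
    (D : Tor T (fun i => X (sr i)))
    (hM : ∀ σ τ : I → I, Function.Injective σ → Function.Injective τ → (∀ i j, M (σ i) (σ j) = M i j) →
      (∀ i j, M (τ i) (τ j) = M i j) → (∃ i, σ i ≠ i) → (∃ i, τ i ≠ i) → ∀ i, σ (τ i) = i) : OutNil Y := by
  obtain ⟨hN, cs', hcs, hW, S⟩ := exists_setup R hgen hcore
  obtain ⟨g₀, hg₀⟩ := exists_g0 R hgen cs'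
  rw [outNil_iff]
  intro X₀ T₀ c
  obtain ⟨N, hNn, hNm⟩ := exists_TP hcs g₀ hg₀ hcore
  have hne : ∀ σ : I → I, σ ≠ id → ∃ i, σ i ≠ i := by
    intro σ h1
    by_contra hcon
    push Not at hcon
    exact h1 (funext hcon)
  have hprod : ∀ x y : MulAut Y, x ∉ N → y ∉ N → x * y ∈ N := by
    intro x y hx hy
    obtain ⟨σ, hσ⟩ := exists_typ hcs hg₀ hcore x
    obtain ⟨τ, hτ⟩ := exists_typ hcs hg₀ hcore y
    have h1 : σ ≠ id := fun e => hx ((hNm x).2 (e ▸ hσ))
    have h2 : τ ≠ id := fun e => hy ((hNm y).2 (e ▸ hτ))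
    rw [hNm]
    have h3 : σ ∘ τ = id := funext fun i => hM σ τ (hσ.inj hcs) (hτ.inj hcs) (hσ.matrix hcs) (hτ.matrix hcs)
      (hne σ h1) (hne τ h2) i
    rw [← h3]
    exact hσ.mul hcs hτ
  have hX : X₀ ≤ N := c.le_of_two' fun x _ y _ hx hy => hprod x y hx hy
  have hT₀ : T₀ ≤ N := by
    intro t ht
    by_contra hcon
    apply hcon
    have h1 : t ^ 2 ∈ N := by rw [pow_two]; exact hprod t t hcon hcon
    have h2 : t ^ Nat.card T₀ = 1 := by
      have h3 : (⟨t, ht⟩ : T₀) ^ Nat.card T₀ = 1 := pow_card_eq_one'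
      exact congrArg Subtype.val h3
    obtain ⟨r, hr⟩ := c.odd
    rw [hr, pow_succ, pow_mul] at h2
    have h3 : t = ((t ^ 2) ^ r)⁻¹ := eq_inv_of_mul_eq_one_right h2
    rw [h3]
    exact N.inv_mem (N.pow_mem h1 r)
  have hXD : X₀ ≤ DD hcs g₀ := c.le_of fun x hx t ht => by
    obtain ⟨g, hg, h1⟩ := (hNm x).1 (hX hx)
    obtain ⟨l, hl, h2⟩ := (hNm t).1 (hT₀ ht)
    exact comm_mem_DD hcs hg₀ hcore hg hl h1 fun i s hs => eqv_comm hcs hg₀ hcore D hg hl (h1 i) (h2 i) hs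
  intro x hx
  exact c.mem_of_pow hx D.odd (pow_mem_inner hcs hg₀ hcore D (hXD hx))

/-- **`OutNil`**, a central node `z`. -/
theorem outNil_of_centre (R : RGD cs h p T n X) (hgen : B cs h T X ⊔ NN cs R.nsys = ⊤)
    (hcore : (B cs h T X).normalCore = ⊥) (D : Tor T (fun i => X (sr i))) (z : I)
    (hz : ∀ σ : I → I, Function.Injective σ → (∀ i j, M (σ i) (σ j) = M i j) → σ z = z)
    (hM : ∀ σ τ : I → I, Function.Injective σ → Function.Injective τ → (∀ i j, M (σ i) (σ j) = M i j) →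
      (∀ i j, M (τ i) (τ j) = M i j) → (∀ i, σ (σ i) = i) → (∀ i, τ (τ i) = i) → (∀ i, σ (τ i) = τ (σ i)) →
      (∃ i, σ i ≠ i) → (∃ i, τ i ≠ i) → ∀ i, σ (τ i) = i)
    (hu : ∀ i, i ≠ z → ∀ s ∈ T, ∃ u ∈ T, Eqv (X (sr i)) s u ∧
      ∀ x ∈ X (rep cs h (cs.simple z) (sr i)), u * x = x * u)
    (hv : ∀ i, i ≠ z → ∀ v ∈ T, (∀ x ∈ X (sr z), v * x = x * v) →
      (∀ x ∈ X (rep cs h (cs.simple z) (sr i)), v * x = x * v) → ∀ x ∈ X (sr i), v * x = x * v) : OutNil Y := by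
  obtain ⟨hN, cs', hcs, hW, S⟩ := exists_setup R hgen hcore
  obtain ⟨g₀, hg₀⟩ := exists_g0 R hgen cs'
  have hI : Finite I := inferInstance
  have hC : Cox cs' := inferInstance
  rw [outNil_iff]
  intro X₀ T₀ c
  obtain ⟨N, hNn, hNm⟩ := exists_TP hcs g₀ hg₀ hcore
  have hne : ∀ σ : I → I, σ ≠ id → ∃ i, σ i ≠ i := by
    intro σ h1
    by_contra hcon
    push Not at hcon
    exact h1 (funext hcon)
  have hX : X₀ ≤ N := c.le_of_two' fun x hxX y hyX hx hy => by
    obtain ⟨σ, hσ⟩ := exists_typ hcs hg₀ hcore x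
    obtain ⟨τ, hτ⟩ := exists_typ hcs hg₀ hcore y
    have h1 : σ ≠ id := fun e => hx ((hNm x).2 (e ▸ hσ))
    have h2 : τ ≠ id := fun e => hy ((hNm y).2 (e ▸ hτ))
    rw [hNm]
    have e1 : σ ∘ σ = id := by
      have h4 := hσ.mul hcs hσ
      rw [c.sq x hxX] at h4
      exact h4.unique hcs hcore (Typ.one hcs)
    have e2 : τ ∘ τ = id := by
      have h4 := hτ.mul hcs hτ
      rw [c.sq y hyX] at h4
      exact h4.unique hcs hcore (Typ.one hcs)
    have e3 : σ ∘ τ = τ ∘ σ := by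
      have h4 := hσ.mul hcs hτ
      rw [c.comm hxX hyX] at h4
      exact h4.unique hcs hcore (hτ.mul hcs hσ)
    have h3 : σ ∘ τ = id := funext fun i => hM σ τ (hσ.inj hcs) (hτ.inj hcs) (hσ.matrix hcs) (hτ.matrix hcs)
      (congrFun e1) (congrFun e2) (congrFun e3) (hne σ h1) (hne τ h2) i
    rw [← h3]
    exact hσ.mul hcs hτ
  have hXD : X₀ ≤ DD hcs g₀ := c.le_of fun x hx t ht => by
    obtain ⟨g, hg, h1⟩ := (hNm x).1 (hX hx)
    obtain ⟨τ, hτ⟩ := exists_typ hcs hg₀ hcore t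
    have hτz := hz τ (hτ.inj hcs) (hτ.matrix hcs)
    obtain ⟨l, hl, h2⟩ := hτ
    have hδ : Nrm R hgen g₀ ((MulAut.conj g * x)⁻¹ * ((MulAut.conj l * t) * (MulAut.conj g * x) *
      (MulAut.conj l * t)⁻¹)) := hg.inv.mul ((hl.mul hg).mul hl.inv)
    set δ := (MulAut.conj g * x)⁻¹ * ((MulAut.conj l * t) * (MulAut.conj g * x) * (MulAut.conj l * t)⁻¹) with hδ'
    -- the type of `δ`
    have hδσ : ∀ i, sg (eS R hgen) cs' hcs hδ.keep i = i := sg_comm hcs hg.keep hl.keep h1 hδ.keep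
    have hzz : ∀ s ∈ T, Eqv (X (sr z)) (δ s) s := fun s hs =>
      eqv_comm hcs hg₀ hcore D hg hl (h1 z) ((h2 z).trans hτz) hs
    refine comm_mem_DD hcs hg₀ hcore hg hl h1 fun i s hs => ?_
    rw [← hδ']
    by_cases hiz : i = z
    · rw [hiz]; exact hzz s hs
    obtain ⟨u, huT, hsu, hux⟩ := hu i hiz s hs
    have k1 := Nrm.eqv hcs hg₀ hcore hδ hs huT hsu
    rw [hδσ] at k1
    -- `δ u` centralises `X (s_z (sr i))`
    have k2 := hδ.cen_rep hcs hcore hg₀ huT (i := i) (j := z) hux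
    rw [hδσ, hδσ] at k2
    have k3 : Eqv (X (sr i)) (δ u) u := by
      refine hv i hiz (u⁻¹ * δ u) (mul_mem (inv_mem huT) (hδ.mem_T hcs hcore hg₀ huT)) (hzz u huT) ?_
      intro x hx
      have c1 : Commute u x := hux x hx
      have c2 : Commute (δ u) x := k2 x hx
      exact (c1.inv_left.mul_left c2).eq
    exact (k1.trans k3).trans hsu.symm
  intro x hx
  exact c.mem_of_pow hx D.odd (pow_mem_inner hcs hg₀ hcore D (hXD hx))

end

end Cfsg.Agent.Omega.Lie.OutRgd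

end

-- merged: Cfsg.Agent.Omega.Lie.OutChev
section

/-!
# `OutNil` for the Chevalley groups `D.group F`, `F` of characteristic two

* `Scal T V` : `T` acts on `V ≅ (F, +)` as the full group of scalars; `tor_of_scal`;
* `tor_group`, `outNil_group` : all tabulated data;
* `outNil_G2`, `outNil_F4`.
-/

set_option autoImplicit false
set_option linter.unusedSectionVars false

namespace Cfsg.Agent.Omega.Lie.OutRgd

open CoxeterSystem Cfsg.Agent.ChevalleyStructure.CoxeterGeom Cfsg.Agent.Tits.Roots Cfsg.Agent.Tits.Core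
  Cfsg.Agent.Tits.RootComb Cfsg.Agent.Nodes.Comb Cfsg.Agent.Nodes.Reps Cfsg.Agent.Nodes.BNOf Cfsg.Agent.Nodes.BNOf.RGD
  Cfsg.Agent.Nodes.RGDChev Cfsg.Agent.OddHalf.Table.AutRGD Cfsg.Agent.Omega.Lie.OutT
  Cfsg.Agent.KFacts.RgdChevCoord Cfsg.Agent.KFacts.RgdField
open Cfsg.Lie Cfsg.Agent.ChevalleyStructure Cfsg.Agent.ChevalleyStructure.Elts
  Cfsg.Agent.ChevalleyStructure.RootVec Cfsg.Agent.ChevalleyStructure.RootVecTab
  Cfsg.Agent.ChevalleyStructure.NPerm Cfsg.Agent.ChevalleyStructure.CoxeterGeomTypes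

universe u

/-! ### Scalars -/

/-- `T` acts on `V ≅ (F, +)` as the full group of scalars. -/
structure Scal {Y : Type*} [Group Y] (T V : Subgroup Y) (F : Type*) [Field F] (x : F → Y) : Prop where
  mem : ∀ y ∈ V, ∃ a, x a = y
  zero : x 0 = 1
  inj : Function.Injective x
  act : ∀ t ∈ T, ∃ c : F, ∀ a, t * x a * t⁻¹ = x (c * a)
  onto : ∀ c : F, c ≠ 0 → ∃ t ∈ T, ∀ a, t * x a * t⁻¹ = x (c * a)

namespace Scal

variable {Y : Type*} [Group Y] {T V : Subgroup Y} {F : Type*} [Field F] {x : F → Y}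

theorem tr (S : Scal T V F x) : ∀ y ∈ V, ∀ z ∈ V, y ≠ 1 → z ≠ 1 → ∃ t ∈ T, t * y * t⁻¹ = z := by
  intro y hy z hz hy1 hz1
  obtain ⟨a, rfl⟩ := S.mem y hy
  obtain ⟨b, rfl⟩ := S.mem z hz
  have ha : a ≠ 0 := fun e => hy1 (by rw [e, S.zero])
  have hb : b ≠ 0 := fun e => hz1 (by rw [e, S.zero])
  obtain ⟨t, ht, h⟩ := S.onto (b / a) (div_ne_zero hb ha)
  exact ⟨t, ht, by rw [h, div_mul_cancel₀ b ha]⟩

theorem cyc [Finite F] (S : Scal T V F x) :
    ∃ k ∈ T, ∀ t ∈ T, ∃ m : ℕ, ∀ y ∈ V, t * y * t⁻¹ = k ^ m * y * (k ^ m)⁻¹ := by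
  obtain ⟨ζ, hζ⟩ := IsCyclic.exists_generator (α := Fˣ)
  obtain ⟨k, hk, hkx⟩ := S.onto ζ ζ.ne_zero
  have hpow : ∀ m : ℕ, ∀ a, k ^ m * x a * (k ^ m)⁻¹ = x ((ζ : F) ^ m * a) := by
    intro m
    induction m with
    | zero => intro a; rw [pow_zero, pow_zero, one_mul, one_mul, inv_one, mul_one]
    | succ m ih =>
      intro a
      have e : k ^ (m + 1) * x a * (k ^ (m + 1))⁻¹ = k * (k ^ m * x a * (k ^ m)⁻¹) * k⁻¹ := by
        rw [pow_succ']; group
      rw [e, ih, hkx, pow_succ', mul_assoc]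
  refine ⟨k, hk, fun t ht => ?_⟩
  obtain ⟨c, hc⟩ := S.act t ht
  have hc0 : c ≠ 0 := by
    rintro rfl
    have h1 := hc 1
    rw [zero_mul, S.zero] at h1
    have h2 : x 1 = 1 := by
      have : x 1 = t⁻¹ * (t * x 1 * t⁻¹) * t := by group
      rw [this, h1]; group
    exact one_ne_zero (S.inj (h2.trans S.zero.symm))
  obtain ⟨m, hm⟩ := (mem_powers_iff_mem_zpowers.2 (hζ (Units.mk0 c hc0)))
  refine ⟨m, fun y hy => ?_⟩
  obtain ⟨a, rfl⟩ := S.mem y hy
  have hm' : (ζ : F) ^ m = c := by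
    have := congrArg Units.val hm
    simpa using this
  rw [hc, hpow, hm']

end Scal

/-! ### Chevalley groups -/

section

variable {D : ChevalleyDatum} {l : ℕ} {M : CoxeterMatrix (Fin l)}

theorem exists_sq {F : Type*} [Field F] [Finite F] [CharP F 2] (c : F) : ∃ a : F, a ^ 2 = c := by
  obtain ⟨a, ha⟩ := FiniteField.isSquare_of_char_two (ringChar.eq F 2) c
  exact ⟨a, by rw [pow_two, ha]⟩

theorem scal_group (hp : IsType D l M) (F : Type u) [Field F] [Finite F] [CharP F 2] (i : Fin l) :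
    Scal (TT D F) (XX D l F (sr i)) F (xc hp (sr i)) := by
  have hs : vec D l (D.simple i) = sr i := vec_simple hp i
  have hr := simple_lt hp.inList (lt_rank hp i)
  have C := (coords (K := F) hp M.toCoxeterSystem 2).coord (sr i) (isRoot_sr M.toCoxeterSystem hp.isCartan i)
  refine ⟨fun y hy => (C.mem y).1 hy, C.zero, C.inj, fun t ht => ⟨_, C.act t ht⟩, fun c hc0 => ?_⟩
  obtain ⟨a, ha⟩ := exists_sq c
  have ha0 : a ≠ 0 := by
    rintro rfl
    exact hc0 (by rw [← ha]; simp)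
  refine ⟨Cfsg.Agent.KFacts.RgdChevCoord.hc hp i a, hc_mem hp i ha0, fun b => ?_⟩
  rw [C.act _ (hc_mem hp i ha0)]
  have h1 : ch hp (sr i) (Cfsg.Agent.KFacts.RgdChevCoord.hc hp i a) = c := by
    rw [← hs, ch_hc hp i ha0 hr, ← cartanOf_def D l i i, hp.isCartan.diag]
    rw [← ha]
    exact zpow_natCast a 2
  rw [h1]

theorem tor_group (hp : IsType D l M) (F : Type u) [Field F] [Finite F] [CharP F 2] :
    Tor (TT D F) (fun i : Fin l => XX D l F (sr i)) := by
  have : Fact (Nat.Prime 2) := ⟨Nat.prime_two⟩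
  have R := rgd (K := F) hp M.toCoxeterSystem 2
  refine ⟨?_, ?_, ?_, fun i => (scal_group hp F i).tr, fun i => (scal_group hp F i).cyc⟩
  · rintro ⟨a, ha'⟩ ha ⟨b, hb'⟩ hb
    apply Subtype.ext
    exact FixBN.ChevGood.diag_comm F hp (Subgroup.mem_subgroupOf.1 ha) (Subgroup.mem_subgroupOf.1 hb)
  · exact (Nat.coprime_two_right).1 R.tcop
  · intro i t ht y hy
    have h1 := R.tor (sr i) (isRoot_sr M.toCoxeterSystem hp.isCartan i) t ht
    have h2 : t * y * t⁻¹ ∈ cj t ((XV D l F (sr i)).subgroupOf (D.group F)) := conj_mem_cj.2 hy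
    rw [h1] at h2
    exact h2

/-- **`OutNil` for the tabulated Chevalley groups.** -/
theorem outNil_group [Nonempty (Fin l)] (hp : IsType D l M) (F : Type u) [Field F] [Finite F] [CharP F 2]
    [IsSimpleGroup ↥(D.group F)]
    (hM : ∀ σ τ : Fin l → Fin l, Function.Injective σ → Function.Injective τ →
      (∀ i j, M (σ i) (σ j) = M i j) →
      (∀ i j, M (τ i) (τ j) = M i j) → (∃ i, σ i ≠ i) → (∃ i, τ i ≠ i) → ∀ i, σ (τ i) = i) :
    OutNil ↥(D.group F) := by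
  have hprime : Fact (Nat.Prime 2) := ⟨Nat.prime_two⟩
  have hW := finite_W hp M.toCoxeterSystem
  have R := rgd (K := F) hp M.toCoxeterSystem 2
  have hgen := gen (K := F) hp M.toCoxeterSystem 2
  obtain ⟨i₀⟩ := (inferInstance : Nonempty (Fin l))
  have hcore := Cfsg.Agent.Tits.OfBN.normalCore_eq_bot (R.bnPair hgen) ⟨_, i₀, rfl⟩
  exact outNil R hgen hcore (tor_group hp F) hM

theorem outNil_G2 (F : Type u) [Field F] [Finite F] [CharP F 2] [IsSimpleGroup ↥(chevG2.group F)] :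
    OutNil ↥(chevG2.group F) := by
  refine outNil_group (l := 2) (M := CoxeterMatrix.G₂) (by simp [IsType, typeList]) F ?_
  intro σ τ h1 h2 _ _ h3 h4 i
  have key : ∀ σ : Fin 2 → Fin 2, Function.Injective σ → (∃ i, σ i ≠ i) → ∀ i, σ i = 1 - i := by decide
  rw [key σ h1 h3, key τ h2 h4]
  revert i
  decide

theorem outNil_F4 (F : Type u) [Field F] [Finite F] [CharP F 2] [IsSimpleGroup ↥(chevF4.group F)] :
    OutNil ↥(chevF4.group F) := by
  refine outNil_group (l := 4) (M := CoxeterMatrix.F₄) (by simp [IsType, typeList]) F ?_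
  intro σ τ _ _ hσ hτ hσ1 hτ1 i
  rw [OddHalf.Table.OutChevTwo.diag_F4 σ hσ hσ1, OddHalf.Table.OutChevTwo.diag_F4 τ hτ hτ1]
  revert i
  decide

end

end Cfsg.Agent.Omega.Lie.OutRgd

end
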